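import Mathlib
import Cfsg.Agent.ClassicalGeometry.Sp4Graph

/-!
# `Sp_4(F)`, characteristic two: the quadratic equation of `v + v⁻¹` (helper88, S5764, SP4G)

* `st A` : the symplectic adjoint of the `4 × 4` matrix `A`; `A ∈ Sp ↔ A * st A = 1`;
* `W_sq` : `W = A + st A` satisfies `W² = (tr A) W + pf A`; for symplectic `A`, `pf A = tr (mn A)`;
* `exists_of_comm` : if `tr v ≠ 0`, `tr (mn v) ≠ 0`, every matrix commuting with the symplectic matrix `v` is
  `a + b w + (c + d w) v`, `w = v + v⁻¹`.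
-/

set_option autoImplicit false
set_option linter.unusedSectionVars false

namespace Cfsg.Agent.H88.FC

open Matrix Cfsg.Agent.ClassicalGeometry.Sp4Graph

variable {F : Type*} [Field F] [CharP F 2]

/-- the symplectic adjoint -/
def st (A : Matrix I4 I4 F) : Matrix I4 I4 F := Matrix.of fun i j => A (Sum.swap j) (Sum.swap i)

theorem st_apply (A : Matrix I4 I4 F) (i j : I4) : st A i j = A (Sum.swap j) (Sum.swap i) := rfl

theorem st_st (A : Matrix I4 I4 F) : st (st A) = A := by
  ext i j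
  rw [st_apply, st_apply, Sum.swap_swap, Sum.swap_swap]

theorem st_add (A B : Matrix I4 I4 F) : st (A + B) = st A + st B := rfl

theorem st_smul (c : F) (A : Matrix I4 I4 F) : st (c • A) = c • st A := rfl

theorem st_zero : st (0 : Matrix I4 I4 F) = 0 := rfl

theorem st_mul (A B : Matrix I4 I4 F) : st (A * B) = st B * st A := by
  ext i j
  rw [st_apply, Matrix.mul_apply, Matrix.mul_apply]
  refine Fintype.sum_equiv (Equiv.sumComm (Fin 2) (Fin 2)) _ _ fun k => ?_
  rw [st_apply, st_apply, Equiv.sumComm_apply, Sum.swap_swap, mul_comm]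

theorem st_one : st (1 : Matrix I4 I4 F) = 1 := by
  ext i j
  rw [st_apply, Matrix.one_apply, Matrix.one_apply]
  have : (Sum.swap j = Sum.swap i) ↔ (i = j) := by
    constructor
    · intro h
      have := congrArg Sum.swap h
      rw [Sum.swap_swap, Sum.swap_swap] at this
      exact this.symm
    · rintro rfl; rfl
  simp only [this]

theorem mem_iff (A : Matrix I4 I4 F) : A ∈ Matrix.symplecticGroup (Fin 2) F ↔ A * st A = 1 := by
  have key : ∀ i j : I4, (A * st A) i j = A i (.inl 0) * A (Sum.swap j) (.inr 0) + A i (.inr 0) * A (Sum.swap j) (.inl 0)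
      + A i (.inl 1) * A (Sum.swap j) (.inr 1) + A i (.inr 1) * A (Sum.swap j) (.inl 1) := by
    intro i j
    rw [mul_eq]
    simp only [st_apply, Sum.swap_inl, Sum.swap_inr]
    ring
  constructor
  · intro hA
    ext i j
    rw [key, row_rel hA, Sum.swap_swap, Matrix.one_apply]
  · intro h
    apply mem_of_row_rel
    intro i j
    have h1 := key i (Sum.swap j)
    rw [Sum.swap_swap] at h1
    rw [← h1, h, Matrix.one_apply]

theorem mul_st (A : Matrix.symplecticGroup (Fin 2) F) : (A : Matrix I4 I4 F) * st A = 1 := (mem_iff _).1 A.2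

theorem st_mul_self (A : Matrix.symplecticGroup (Fin 2) F) : st (A : Matrix I4 I4 F) * A = 1 :=
  mul_eq_one_comm.1 (mul_st A)

theorem coe_inv (A : Matrix.symplecticGroup (Fin 2) F) :
    ((A⁻¹ : Matrix.symplecticGroup (Fin 2) F) : Matrix I4 I4 F) = st (A : Matrix I4 I4 F) := by
  have h1 : ((A⁻¹ : Matrix.symplecticGroup (Fin 2) F) : Matrix I4 I4 F) * (A : Matrix I4 I4 F) = 1 :=
    congrArg Subtype.val (inv_mul_cancel A)
  calc ((A⁻¹ : Matrix.symplecticGroup (Fin 2) F) : Matrix I4 I4 F)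
      = ((A⁻¹ : Matrix.symplecticGroup (Fin 2) F) : Matrix I4 I4 F) * ((A : Matrix I4 I4 F) * st A) := by
        rw [mul_st, mul_one]
    _ = st (A : Matrix I4 I4 F) := by rw [← mul_assoc, h1, one_mul]

/-- `W A = A + A*` -/
def W (A : Matrix I4 I4 F) : Matrix I4 I4 F := A + st A

/-- the Pfaffian of `A + A*` -/
def pf (A : Matrix I4 I4 F) : F :=
  (A (.inl 0) (.inl 0) + A (.inr 0) (.inr 0)) * (A (.inl 1) (.inl 1) + A (.inr 1) (.inr 1))
  + (A (.inl 0) (.inl 1) + A (.inr 1) (.inr 0)) * (A (.inl 1) (.inl 0) + A (.inr 0) (.inr 1))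
  + (A (.inl 0) (.inr 1) + A (.inl 1) (.inr 0)) * (A (.inr 0) (.inl 1) + A (.inr 1) (.inl 0))

theorem trace_eq (A : Matrix I4 I4 F) : A.trace = A (.inl 0) (.inl 0) + A (.inr 0) (.inr 0)
    + A (.inl 1) (.inl 1) + A (.inr 1) (.inr 1) := by
  simp [Matrix.trace, Fintype.sum_sum_type, Fin.sum_univ_two]
  ring

theorem W_sq (A : Matrix I4 I4 F) : W A * W A = A.trace • W A + pf A • (1 : Matrix I4 I4 F) := by
  have h2 : (2 : F) = 0 := CharTwo.two_eq_zero
  have h4 : (4 : F) = 0 := by rw [show (4 : F) = 2 * 2 by norm_num, h2, mul_zero]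
  ext i j
  rw [mul_eq, trace_eq]
  simp only [Matrix.add_apply, Matrix.smul_apply, W, st_apply, Matrix.one_apply, pf, smul_eq_mul]
  rcases i with i | i <;> rcases j with j | j <;> fin_cases i <;> fin_cases j <;>
    simp only [Fin.zero_eta, Fin.mk_one, Fin.isValue, Sum.swap_inl, Sum.swap_inr, if_true, reduceCtorEq, if_false,
      Sum.inl.injEq, Sum.inr.injEq, zero_ne_one, one_ne_zero] <;>
    (rw [← sub_eq_zero]; ring_nf; simp only [h2, h4, mul_zero, add_zero, sub_zero, neg_zero])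

theorem pf_eq (A : Matrix.symplecticGroup (Fin 2) F) : pf (A : Matrix I4 I4 F) = (mn (A : Matrix I4 I4 F)).trace := by
  have h2 : (2 : F) = 0 := CharTwo.two_eq_zero
  have h3 := row_rel A.2 (.inl 0) (.inr 0)
  have h4 := col_rel A.2 (.inl 0) (.inr 0)
  simp only [Sum.swap_inr, if_true] at h3 h4
  rw [trace_eq]
  simp only [mn_apply, pf]
  simp only [pa_inl, pa_inr, pb_inl0, pb_inl1, pb_inr0, pb_inr1]
  set B : Matrix I4 I4 F := (A : Matrix I4 I4 F) with hB
  clear_value B
  linear_combination h3 + h4 - (B (.inl 0) (.inl 0) * B (.inr 0) (.inr 0) + B (.inl 0) (.inr 0) * B (.inr 0) (.inl 0) - 1) * h2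

theorem W_sq' (A : Matrix.symplecticGroup (Fin 2) F) :
    W (A : Matrix I4 I4 F) * W A = (A : Matrix I4 I4 F).trace • W A + (graphHom F A : Matrix I4 I4 F).trace • (1 : Matrix I4 I4 F) := by
  rw [W_sq, pf_eq, graphHom_coe]

theorem trace_W (A : Matrix I4 I4 F) : A.trace = W A (.inl 0) (.inl 0) + W A (.inl 1) (.inl 1) := by
  rw [trace_eq]
  simp only [W, Matrix.add_apply, st_apply, Sum.swap_inl]
  ring

/-- if `A + A*` is scalar then `tr A = 0` -/
theorem trace_eq_zero {A : Matrix I4 I4 F} {c : F} (h : W A = c • (1 : Matrix I4 I4 F)) : A.trace = 0 := by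
  rw [trace_W, h]
  simp only [Matrix.smul_apply, Matrix.one_apply, if_true]
  exact CharTwo.add_self_eq_zero _

theorem W_add (A B : Matrix I4 I4 F) : W (A + B) = W A + W B := by
  rw [W, W, W, st_add]
  abel

/-- polarisation of `W_sq` -/
theorem W_comm (A B : Matrix I4 I4 F) : ∃ k : F, W A * W B + W B * W A =
    A.trace • W B + B.trace • W A + k • (1 : Matrix I4 I4 F) := by
  refine ⟨pf (A + B) - pf A - pf B, ?_⟩
  have h1 := W_sq (A + B)
  rw [W_add, Matrix.trace_add] at h1
  have h2 := W_sq A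
  have h3 := W_sq B
  have h4 : (W A + W B) * (W A + W B) = W A * W A + W B * W B + (W A * W B + W B * W A) := by noncomm_ring
  rw [h4, h2, h3] at h1
  have h5 : W A * W B + W B * W A = ((A.trace + B.trace) • (W A + W B) + pf (A + B) • (1 : Matrix I4 I4 F))
      - (A.trace • W A + pf A • (1 : Matrix I4 I4 F) + (B.trace • W B + pf B • (1 : Matrix I4 I4 F))) := by
    rw [← h1]
    abel
  rw [h5]
  module

/-- `X = a + b w` -/
def InK (w X : Matrix I4 I4 F) : Prop := ∃ a b : F, X = a • (1 : Matrix I4 I4 F) + b • w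

section InK

variable {w X Y : Matrix I4 I4 F}

theorem InK.scal (a : F) : InK w (a • (1 : Matrix I4 I4 F)) := ⟨a, 0, by rw [zero_smul, add_zero]⟩

theorem InK.one : InK w (1 : Matrix I4 I4 F) := ⟨1, 0, by rw [zero_smul, add_zero, one_smul]⟩

theorem InK.self : InK w w := ⟨0, 1, by rw [zero_smul, zero_add, one_smul]⟩

theorem InK.add (hX : InK w X) (hY : InK w Y) : InK w (X + Y) := by
  obtain ⟨a, b, rfl⟩ := hX
  obtain ⟨c, d, rfl⟩ := hY
  exact ⟨a + c, b + d, by module⟩

theorem InK.smul (c : F) (hX : InK w X) : InK w (c • X) := by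
  obtain ⟨a, b, rfl⟩ := hX
  exact ⟨c * a, c * b, by module⟩

theorem InK.mul {c₁ c₂ : F} (hw : w * w = c₁ • w + c₂ • (1 : Matrix I4 I4 F)) (hX : InK w X) (hY : InK w Y) :
    InK w (X * Y) := by
  obtain ⟨a, b, rfl⟩ := hX
  obtain ⟨c, d, rfl⟩ := hY
  refine ⟨a * c + b * d * c₂, a * d + b * c + b * d * c₁, ?_⟩
  have h : (a • (1 : Matrix I4 I4 F) + b • w) * (c • (1 : Matrix I4 I4 F) + d • w) =
      (a * c) • (1 : Matrix I4 I4 F) + (a * d + b * c) • w + (b * d) • (w * w) := by
    simp only [add_mul, mul_add, smul_mul_assoc, mul_smul_comm, one_mul, mul_one]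
    module
  rw [h, hw]
  module

theorem InK.comm_of {Z : Matrix I4 I4 F} (hX : InK w X) (hZ : w * Z = Z * w) : X * Z = Z * X := by
  obtain ⟨a, b, rfl⟩ := hX
  simp only [add_mul, mul_add, smul_mul_assoc, mul_smul_comm, one_mul, mul_one, hZ]

theorem InK.comm (hX : InK w X) (hY : InK w Y) : X * Y = Y * X :=
  hX.comm_of (hY.comm_of rfl).symm

theorem InK.st (hw : FC.st w = w) (hX : InK w X) : FC.st X = X := by
  obtain ⟨a, b, rfl⟩ := hX
  rw [st_add, st_smul, st_smul, st_one, hw]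

theorem InK.coeff (hw : ∀ c : F, w ≠ c • (1 : Matrix I4 I4 F)) {a b c d : F}
    (h : a • (1 : Matrix I4 I4 F) + b • w = c • (1 : Matrix I4 I4 F) + d • w) : a = c ∧ b = d := by
  have hb : b = d := by
    by_contra hne
    apply hw ((b - d)⁻¹ * (c - a))
    have h1 : (b - d) • w = (c - a) • (1 : Matrix I4 I4 F) := by
      have h2 : (b - d) • w = (a • (1 : Matrix I4 I4 F) + b • w) - a • (1 : Matrix I4 I4 F) - d • w := by module
      rw [h2, h]
      module
    rw [mul_smul, ← h1, smul_smul, inv_mul_cancel₀ (sub_ne_zero.2 hne), one_smul]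
  subst hb
  refine ⟨?_, rfl⟩
  have h1 : a • (1 : Matrix I4 I4 F) = c • (1 : Matrix I4 I4 F) := add_right_cancel h
  have h2 := congrFun (congrFun h1 (.inl 0)) (.inl 0)
  simpa using h2

theorem InK.sq_eq_zero {c₁ c₂ : F} (hc : c₁ ≠ 0) (hw : w * w = c₁ • w + c₂ • (1 : Matrix I4 I4 F))
    (hns : ∀ c : F, w ≠ c • (1 : Matrix I4 I4 F)) (hX : InK w X) (h : X * X = 0) : X = 0 := by
  obtain ⟨a, b, rfl⟩ := hX
  have h1 : (a • (1 : Matrix I4 I4 F) + b • w) * (a • (1 : Matrix I4 I4 F) + b • w) =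
      (a * a + b * b * c₂) • (1 : Matrix I4 I4 F) + (b * b * c₁) • w := by
    have h2 : (a • (1 : Matrix I4 I4 F) + b • w) * (a • (1 : Matrix I4 I4 F) + b • w) =
      (a * a) • (1 : Matrix I4 I4 F) + (a * b + a * b) • w + (b * b) • (w * w) := by
      simp only [add_mul, mul_add, smul_mul_assoc, mul_smul_comm, one_mul, mul_one]
      module
    rw [h2, hw, CharTwo.add_self_eq_zero]
    module
  rw [h1] at h
  have h3 : (a * a + b * b * c₂) • (1 : Matrix I4 I4 F) + (b * b * c₁) • w =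
      (0 : F) • (1 : Matrix I4 I4 F) + (0 : F) • w := by rw [h]; simp
  obtain ⟨h4, h5⟩ := InK.coeff hns h3
  have hb : b = 0 := by
    rcases mul_eq_zero.1 h5 with h6 | h6
    · exact mul_self_eq_zero.1 h6
    · exact absurd h6 hc
  subst hb
  rw [zero_mul, zero_mul, add_zero] at h4
  rw [mul_self_eq_zero.1 h4]
  simp

end InK

/-- the hypothesis on `v` -/
structure Reg (v : Matrix.symplecticGroup (Fin 2) F) : Prop where
  c1 : (v : Matrix I4 I4 F).trace ≠ 0
  c2 : (graphHom F v : Matrix I4 I4 F).trace ≠ 0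

section Reg

variable {v : Matrix.symplecticGroup (Fin 2) F}

theorem st_W (A : Matrix I4 I4 F) : st (W A) = W A := by
  rw [W, st_add, st_st, add_comm]

theorem Reg.ns (hv : Reg v) (c : F) : W (v : Matrix I4 I4 F) ≠ c • (1 : Matrix I4 I4 F) :=
  fun h => hv.c1 (trace_eq_zero h)

theorem comm_st {X : Matrix I4 I4 F} (hX : X * v = v * X) : X * st (v : Matrix I4 I4 F) = st (v : Matrix I4 I4 F) * X :=
  calc X * st (v : Matrix I4 I4 F) = st (v : Matrix I4 I4 F) * v * (X * st (v : Matrix I4 I4 F)) := by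
        rw [st_mul_self, one_mul]
    _ = st (v : Matrix I4 I4 F) * (v * X) * st (v : Matrix I4 I4 F) := by simp only [mul_assoc]
    _ = st (v : Matrix I4 I4 F) * X * (v * st (v : Matrix I4 I4 F)) := by rw [← hX]; simp only [mul_assoc]
    _ = st (v : Matrix I4 I4 F) * X := by rw [mul_st, mul_one]

theorem st_comm {X : Matrix I4 I4 F} (hX : X * v = v * X) : st X * v = v * st X := by
  have h := congrArg st (comm_st hX)
  rw [st_mul, st_mul, st_st] at h
  exact h.symm

theorem comm_W {X : Matrix I4 I4 F} (hX : X * v = v * X) : W (v : Matrix I4 I4 F) * X = X * W (v : Matrix I4 I4 F) := by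
  rw [W, add_mul, mul_add, hX, comm_st hX]

theorem W_inK (hv : Reg v) {X : Matrix I4 I4 F} (hX : X * v = v * X) : InK (W (v : Matrix I4 I4 F)) (W X) := by
  obtain ⟨k, hk⟩ := W_comm (v : Matrix I4 I4 F) X
  have h1 : W (v : Matrix I4 I4 F) * W X = W X * W (v : Matrix I4 I4 F) := by
    rw [W.eq_1 X, mul_add, add_mul, comm_W hX, comm_W (st_comm hX)]
  have h2 : W (v : Matrix I4 I4 F) * W X + W X * W (v : Matrix I4 I4 F) = 0 := by
    rw [h1]
    exact CharTwo.add_self_eq_zero _
  rw [h2] at hk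
  set c := (v : Matrix I4 I4 F).trace with hc
  refine ⟨c⁻¹ * k, c⁻¹ * X.trace, ?_⟩
  have h3 : c • W X = X.trace • W (v : Matrix I4 I4 F) + k • (1 : Matrix I4 I4 F) := by
    have h4 : c • W X + (X.trace • W (v : Matrix I4 I4 F) + k • (1 : Matrix I4 I4 F)) = 0 := by
      rw [hk]; abel
    exact CharTwo.add_eq_zero.1 h4
  calc W X = c⁻¹ • (c • W X) := by rw [smul_smul, inv_mul_cancel₀ hv.c1, one_smul]
    _ = _ := by rw [h3]; module

theorem W_mul_inv (hv : Reg v) : ∃ u : Matrix I4 I4 F, InK (W (v : Matrix I4 I4 F)) u ∧ u * W (v : Matrix I4 I4 F) = 1 := by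
  have h := W_sq' v
  set c₁ := (v : Matrix I4 I4 F).trace with hc1
  set c₂ := (graphHom F v : Matrix I4 I4 F).trace with hc2
  set w := W (v : Matrix I4 I4 F) with hw
  refine ⟨c₂⁻¹ • (w + c₁ • (1 : Matrix I4 I4 F)), (InK.self.add (InK.scal _)).smul _, ?_⟩
  rw [smul_mul_assoc, add_mul, h, smul_mul_assoc, one_mul]
  have h1 : c₁ • w + c₂ • (1 : Matrix I4 I4 F) + c₁ • w = c₂ • (1 : Matrix I4 I4 F) + (c₁ + c₁) • w := by module
  rw [h1, CharTwo.add_self_eq_zero, zero_smul, add_zero, smul_smul, inv_mul_cancel₀ hv.c2, one_smul]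

/-- **the commutant of `v`** -/
theorem exists_of_comm (hv : Reg v) {X : Matrix I4 I4 F} (hX : X * v = v * X) :
    ∃ α β : Matrix I4 I4 F, InK (W (v : Matrix I4 I4 F)) α ∧ InK (W (v : Matrix I4 I4 F)) β ∧ X = α + β * v := by
  have hw2 := W_sq' v
  obtain ⟨u, hu, hu1⟩ := W_mul_inv hv
  have hk1 := W_inK hv hX
  have hvX : (v * X : Matrix I4 I4 F) * v = v * (v * X) := by rw [mul_assoc, hX]
  have hk2 := W_inK hv hvX
  set w := W (v : Matrix I4 I4 F) with hw
  set V : Matrix I4 I4 F := (v : Matrix I4 I4 F) with hV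
  have h1 : st X = X + W X := by
    rw [W, ← add_assoc, CharTwo.add_self_eq_zero, zero_add]
  have h2 : W (V * X) = V * X + (X + W X) * st V := by
    rw [W.eq_1 (V * X), st_mul, ← h1]
  have h3 : st V = w + V := by
    rw [hw, W, add_assoc, add_comm (st V), ← add_assoc, CharTwo.add_self_eq_zero, zero_add]
  have h4 : w * X = W (V * X) + W X * (w + V) := by
    have h5 : X * st V = st V * X := comm_st hX
    rw [h2, add_mul, ← h3, h5, h3]
    have h6 : V * X + ((w + V) * X + W X * (w + V)) + W X * (w + V) =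
        (V * X + V * X) + w * X + (W X * (w + V) + W X * (w + V)) := by
      rw [add_mul]; abel
    rw [← add_assoc] at h6 ⊢
    rw [add_assoc (V * X + (w + V) * X)] 
    rw [add_assoc (V * X + (w + V) * X)] at h6
    rw [h6, CharTwo.add_self_eq_zero, zero_add, CharTwo.add_self_eq_zero, add_zero]
  have h7 : X = (u * W (V * X) + u * W X * w) + (u * W X) * V := by
    calc X = u * (w * X) := by rw [← mul_assoc, hu1, one_mul]
      _ = _ := by rw [h4]; noncomm_ring
  exact ⟨_, _, ((hu.mul hw2 hk2).add ((hu.mul hw2 hk1).mul hw2 InK.self)), hu.mul hw2 hk1, h7⟩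

/-- the commutant of `v` is commutative -/
theorem comm_of_comm (hv : Reg v) {X Y : Matrix I4 I4 F} (hX : X * v = v * X) (hY : Y * v = v * Y) :
    X * Y = Y * X := by
  obtain ⟨α, β, hα, hβ, rfl⟩ := exists_of_comm hv hX
  have h1 : α * Y = Y * α := hα.comm_of (comm_W hY)
  have h2 : β * Y = Y * β := hβ.comm_of (comm_W hY)
  rw [add_mul, mul_add, h1, mul_assoc, ← hY, ← mul_assoc, h2, mul_assoc]

theorem W_st_comm (v : Matrix.symplecticGroup (Fin 2) F) :
    W (v : Matrix I4 I4 F) * st (v : Matrix I4 I4 F) = st (v : Matrix I4 I4 F) * W (v : Matrix I4 I4 F) := by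
  rw [W, add_mul, mul_add, mul_st, st_mul_self]

theorem W_self_comm (v : Matrix.symplecticGroup (Fin 2) F) :
    W (v : Matrix I4 I4 F) * (v : Matrix I4 I4 F) = v * W (v : Matrix I4 I4 F) := comm_W rfl

theorem st_form {α β : Matrix I4 I4 F} (hα : InK (W (v : Matrix I4 I4 F)) α) (hβ : InK (W (v : Matrix I4 I4 F)) β) :
    st (α + β * (v : Matrix I4 I4 F)) = α + β * st (v : Matrix I4 I4 F) := by
  rw [st_add, hα.st (st_W _), st_mul, hβ.st (st_W _), hβ.comm_of (W_st_comm v)]

theorem W_form {α β : Matrix I4 I4 F} (hα : InK (W (v : Matrix I4 I4 F)) α) (hβ : InK (W (v : Matrix I4 I4 F)) β) :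
    W (α + β * (v : Matrix I4 I4 F)) = β * W (v : Matrix I4 I4 F) := by
  rw [W.eq_1 (α + β * (v : Matrix I4 I4 F)), st_form hα hβ, W, mul_add]
  have : α + β * (v : Matrix I4 I4 F) + (α + β * st (v : Matrix I4 I4 F)) =
    (α + α) + (β * (v : Matrix I4 I4 F) + β * st (v : Matrix I4 I4 F)) := by abel
  rw [this, CharTwo.add_self_eq_zero, zero_add]

/-- an involution commuting with `v` is trivial -/
theorem eq_one_of_sq (hv : Reg v) {n : Matrix.symplecticGroup (Fin 2) F} (hn : n * v = v * n) (h2 : n * n = 1) :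
    n = 1 := by
  have hw2 := W_sq' v
  obtain ⟨u, hu, hu1⟩ := W_mul_inv hv
  obtain ⟨α, β, hα, hβ, hX⟩ := exists_of_comm hv (congrArg Subtype.val hn)
  have hst : st (n : Matrix I4 I4 F) = n := by
    rw [← coe_inv, inv_eq_of_mul_eq_one_left h2]
  have h3 : β * W (v : Matrix I4 I4 F) = 0 := by
    rw [← W_form hα hβ, ← hX, W, hst]
    exact CharTwo.add_self_eq_zero _
  have h4 : β = 0 := by
    have h5 : β * W (v : Matrix I4 I4 F) * u = 0 := by rw [h3, zero_mul]
    rw [mul_assoc, InK.self.comm hu, hu1, mul_one] at h5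
    exact h5
  rw [h4, zero_mul, add_zero] at hX
  have h6 : (n : Matrix I4 I4 F) * n = 1 := congrArg Subtype.val h2
  have h7 : (α + 1) * (α + 1) = 0 := by
    have h8 : (α + 1) * (α + 1) = α * α + 1 + (α + α) := by noncomm_ring
    rw [h8, ← hX, h6, CharTwo.add_self_eq_zero, CharTwo.add_self_eq_zero, add_zero]
  have h9 := InK.sq_eq_zero hv.c1 hw2 hv.ns (hα.add InK.one) h7
  apply Subtype.ext
  rw [hX]
  exact CharTwo.add_eq_zero.1 h9

theorem eq_one_of_sq' (hv : Reg v) {n : Matrix.symplecticGroup (Fin 2) F} (hn : n * v = v * n) (h2 : n ^ 2 = 1) :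
    n = 1 := eq_one_of_sq hv hn (by rw [← sq, h2])

omit [CharP F 2] in
theorem commute_of_sq {y : Matrix.symplecticGroup (Fin 2) F} {X : Matrix I4 I4 F} (hy : Odd (orderOf y))
    (h : (y : Matrix I4 I4 F) * ((y : Matrix I4 I4 F) * X) = X * y * y) :
    (y : Matrix I4 I4 F) * X = X * y := by
  obtain ⟨k, hk⟩ := hy
  have h1 : y = (y * y) ^ (k + 1) := by
    rw [← sq, ← pow_mul, show 2 * (k + 1) = orderOf y + 1 by omega, pow_succ, pow_orderOf_eq_one, one_mul]
  have h2 : Commute ((y : Matrix I4 I4 F) * y) X := by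
    change (y : Matrix I4 I4 F) * y * X = X * (y * y)
    rw [mul_assoc, h, mul_assoc]
  have h3 : (y : Matrix I4 I4 F) = ((y : Matrix I4 I4 F) * y) ^ (k + 1) := by
    have := congrArg Subtype.val h1
    rw [SubmonoidClass.coe_pow, Submonoid.coe_mul] at this
    exact this
  have h4 := h2.pow_left (k + 1)
  rw [← h3] at h4
  exact h4

/-- **an element of odd order mapping `v` into its centralizer centralizes `v`** -/
theorem comm_of_conj (hv : Reg v) {y : Matrix.symplecticGroup (Fin 2) F} (hy : Odd (orderOf y))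
    (h : y * v * y⁻¹ * v = v * (y * v * y⁻¹)) : y * v = v * y := by
  have hw2 := W_sq' v
  obtain ⟨u, hu, hu1⟩ := W_mul_inv hv
  obtain ⟨α, β, hα, hβ, hX⟩ := exists_of_comm (X := ((y * v * y⁻¹ : Matrix.symplecticGroup (Fin 2) F) : Matrix I4 I4 F)) hv
    (congrArg Subtype.val h)
  have hyy : (y : Matrix I4 I4 F) * st (y : Matrix I4 I4 F) = 1 := mul_st y
  have hyy' : st (y : Matrix I4 I4 F) * (y : Matrix I4 I4 F) = 1 := st_mul_self y
  have hv' : ((y * v * y⁻¹ : Matrix.symplecticGroup (Fin 2) F) : Matrix I4 I4 F) =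
      (y : Matrix I4 I4 F) * (v : Matrix I4 I4 F) * st (y : Matrix I4 I4 F) := by
    rw [← coe_inv]; rfl
  rw [hv'] at hX
  have hw' : W ((y : Matrix I4 I4 F) * (v : Matrix I4 I4 F) * st (y : Matrix I4 I4 F)) =
      (y : Matrix I4 I4 F) * W (v : Matrix I4 I4 F) * st (y : Matrix I4 I4 F) := by
    rw [W, W, st_mul, st_mul, st_st]
    noncomm_ring
  rw [hX, W_form hα hβ] at hw'
  obtain ⟨c, d, hcd⟩ := hβ.mul hw2 InK.self
  rw [hcd] at hw'
  -- the quadratic equation
  set w := W (v : Matrix I4 I4 F) with hw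
  set c₁ := (v : Matrix I4 I4 F).trace with hc1
  set c₂ := (graphHom F v : Matrix I4 I4 F).trace with hc2
  set Y : Matrix I4 I4 F := (y : Matrix I4 I4 F) with hY
  have h1 : (c • (1 : Matrix I4 I4 F) + d • w) * (c • (1 : Matrix I4 I4 F) + d • w) =
      c₁ • (c • (1 : Matrix I4 I4 F) + d • w) + c₂ • (1 : Matrix I4 I4 F) := by
    have h2 : (c • (1 : Matrix I4 I4 F) + d • w) * (c • (1 : Matrix I4 I4 F) + d • w) = Y * (w * w) * st Y := by
      rw [hw']
      calc Y * w * st Y * (Y * w * st Y) = Y * w * (st Y * Y) * w * st Y := by simp only [mul_assoc]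
        _ = _ := by rw [hyy', mul_one]; simp only [mul_assoc]
    rw [h2, hw2, hw', mul_add, add_mul]
    simp only [mul_smul_comm, smul_mul_assoc, mul_one, hyy]
  have h2 : (c • (1 : Matrix I4 I4 F) + d • w) * (c • (1 : Matrix I4 I4 F) + d • w) =
      (c * c + d * d * c₂) • (1 : Matrix I4 I4 F) + (d * d * c₁) • w := by
    have h3 : (c • (1 : Matrix I4 I4 F) + d • w) * (c • (1 : Matrix I4 I4 F) + d • w) =
      (c * c) • (1 : Matrix I4 I4 F) + (c * d + c * d) • w + (d * d) • (w * w) := by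
      simp only [add_mul, mul_add, smul_mul_assoc, mul_smul_comm, one_mul, mul_one]
      module
    rw [h3, hw2, CharTwo.add_self_eq_zero]
    module
  rw [h2] at h1
  have h3 : (c * c + d * d * c₂) • (1 : Matrix I4 I4 F) + (d * d * c₁) • w =
      (c₁ * c + c₂) • (1 : Matrix I4 I4 F) + (c₁ * d) • w := by
    rw [h1]; module
  obtain ⟨h4, h5⟩ := InK.coeff hv.ns h3
  have hd : d = 1 := by
    have h6 : c₁ * (d * (d - 1)) = 0 := by linear_combination h5
    rcases mul_eq_zero.1 h6 with h7 | h7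
    · exact absurd h7 hv.c1
    rcases mul_eq_zero.1 h7 with h8 | h8
    · exfalso
      subst h8
      rw [zero_smul, add_zero] at hw'
      apply hv.ns c
      calc w = st Y * (Y * w * st Y) * Y := by
            calc w = (st Y * Y) * w * (st Y * Y) := by rw [hyy', one_mul, mul_one]
              _ = _ := by simp only [mul_assoc]
        _ = c • (1 : Matrix I4 I4 F) := by rw [← hw', mul_smul_comm, mul_one, smul_mul_assoc, hyy']
    · exact sub_eq_zero.1 h8
  subst hd
  rw [one_smul] at hw' hcd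
  have h6 : c * (c - c₁) = 0 := by linear_combination h4
  have h7 : (c • (1 : Matrix I4 I4 F) + w) * Y = Y * w := by
    rw [hw', mul_assoc, hyy', mul_one]
  -- `y` commutes with `w`
  have h8 : Y * w = w * Y := by
    rcases mul_eq_zero.1 h6 with h9 | h9
    · rw [← h7, h9, zero_smul, zero_add]
    · apply commute_of_sq hy
      have h10 : Y * w = c • Y + w * Y := by rw [← h7, add_mul, smul_mul_assoc, one_mul]
      rw [h10, mul_add, mul_smul_comm, ← mul_assoc, h10, add_mul, smul_mul_assoc, ← add_assoc]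
      have h11 : c • (Y * Y) + c • (Y * Y) = 0 := CharTwo.add_self_eq_zero _
      rw [h11, zero_add]
  have h9 : c • (1 : Matrix I4 I4 F) + w = w := by
    calc c • (1 : Matrix I4 I4 F) + w = (c • (1 : Matrix I4 I4 F) + w) * (Y * st Y) := by rw [hyy, mul_one]
      _ = w := by rw [← mul_assoc, h7, h8, mul_assoc, hyy, mul_one]
  have hβ1 : β = 1 := by
    have h10 : β * w * u = w * u := by rw [hcd, h9]
    rw [mul_assoc, InK.self.comm hu, hu1, mul_one] at h10
    exact h10
  rw [hβ1, one_mul] at hX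
  have h10 : Y * v = α * Y + v * Y := by
    calc Y * v = Y * v * (st Y * Y) := by rw [hyy', mul_one]
      _ = _ := by rw [← mul_assoc, hX, add_mul]
  apply Subtype.ext
  change Y * (v : Matrix I4 I4 F) = (v : Matrix I4 I4 F) * Y
  apply commute_of_sq hy
  have h11 : α * Y = Y * α := hα.comm_of h8.symm
  rw [h10, mul_add, ← mul_assoc Y (v : Matrix I4 I4 F) Y, h10, add_mul, ← mul_assoc, ← h11, ← add_assoc]
  have h12 : α * Y * Y + α * Y * Y = 0 := CharTwo.add_self_eq_zero _
  rw [h12, zero_add]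

end Reg

end Cfsg.Agent.H88.FC
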