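import Mathlib
import Cfsg.Agent.H88.FC.Quad

/-!
# Choice of a regular element commuting with an abelian group of odd exponent (helper88, S5764, SP4G)
-/

set_option autoImplicit false
set_option linter.unusedSectionVars false

namespace Cfsg.Agent.H88.FC

open Matrix Cfsg.Agent.ClassicalGeometry.Sp4Graph

variable {F : Type*} [Field F] [CharP F 2]

theorem trace_mul_self (A : Matrix I4 I4 F) : (A * A).trace = A.trace * A.trace := by
  have h2 : (2 : F) = 0 := CharTwo.two_eq_zero
  rw [trace_eq, trace_eq, mul_eq, mul_eq, mul_eq, mul_eq]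
  rw [← sub_eq_zero]
  ring_nf
  simp only [h2, mul_zero, add_zero, sub_zero, neg_zero]

/-- first invariant -/
def c1 (A : Matrix.symplecticGroup (Fin 2) F) : F := (A : Matrix I4 I4 F).trace

/-- second invariant -/
def c2 (A : Matrix.symplecticGroup (Fin 2) F) : F := (graphHom F A : Matrix I4 I4 F).trace

theorem c1_graph (A : Matrix.symplecticGroup (Fin 2) F) : c1 (graphHom F A) = c2 A := rfl

theorem c2_graph (A : Matrix.symplecticGroup (Fin 2) F) : c2 (graphHom F A) = c1 A * c1 A := by
  rw [c2, c1, trace_eq, graphHom_graphHom, graphHom_graphHom, graphHom_graphHom, graphHom_graphHom, trace_eq]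
  have h2 : (2 : F) = 0 := CharTwo.two_eq_zero
  rw [← sub_eq_zero]
  ring_nf
  simp only [h2, mul_zero, sub_zero, neg_zero]

theorem c1_sq (A : Matrix.symplecticGroup (Fin 2) F) : c1 (A * A) = c1 A * c1 A := trace_mul_self _

theorem c2_sq (A : Matrix.symplecticGroup (Fin 2) F) : c2 (A * A) = c2 A * c2 A := by
  rw [← c1_graph, ← c1_graph, map_mul, c1_sq]

theorem c1_conj (A B : Matrix.symplecticGroup (Fin 2) F) : c1 (B * A * B⁻¹) = c1 A := by
  change ((B : Matrix I4 I4 F) * (A : Matrix I4 I4 F) * ((B⁻¹ : Matrix.symplecticGroup (Fin 2) F) : Matrix I4 I4 F)).trace = _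
  rw [Matrix.trace_mul_comm, ← mul_assoc]
  have : ((B⁻¹ : Matrix.symplecticGroup (Fin 2) F) : Matrix I4 I4 F) * (B : Matrix I4 I4 F) = 1 :=
    congrArg Subtype.val (inv_mul_cancel B)
  rw [this, one_mul, c1]

theorem c2_conj (A B : Matrix.symplecticGroup (Fin 2) F) : c2 (B * A * B⁻¹) = c2 A := by
  rw [← c1_graph, ← c1_graph, map_mul, map_mul, map_inv, c1_conj]

theorem W_sq'' (A : Matrix.symplecticGroup (Fin 2) F) :
    W (A : Matrix I4 I4 F) * W A = c1 A • W A + c2 A • (1 : Matrix I4 I4 F) := W_sq' A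

theorem exists_sqrt {a : Matrix.symplecticGroup (Fin 2) F} (ha : Odd (orderOf a)) :
    ∃ k : ℕ, a = a ^ k * a ^ k := by
  obtain ⟨k, hk⟩ := ha
  refine ⟨k + 1, ?_⟩
  rw [← pow_add, show k + 1 + (k + 1) = orderOf a + 1 by omega, pow_succ, pow_orderOf_eq_one, one_mul]

theorem W_mul_self (A : Matrix.symplecticGroup (Fin 2) F) :
    W ((A : Matrix I4 I4 F) * (A : Matrix I4 I4 F)) = W (A : Matrix I4 I4 F) * W (A : Matrix I4 I4 F) := by
  rw [W, W, st_mul]
  have h1 := mul_st A
  have h2 := st_mul_self A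
  calc (A : Matrix I4 I4 F) * (A : Matrix I4 I4 F) + st (A : Matrix I4 I4 F) * st (A : Matrix I4 I4 F)
      = (A : Matrix I4 I4 F) * (A : Matrix I4 I4 F) + st (A : Matrix I4 I4 F) * st (A : Matrix I4 I4 F) + (1 + 1) := by
        rw [CharTwo.add_self_eq_zero, add_zero]
    _ = (A : Matrix I4 I4 F) * (A : Matrix I4 I4 F) + st (A : Matrix I4 I4 F) * st (A : Matrix I4 I4 F) +
          ((A : Matrix I4 I4 F) * st (A : Matrix I4 I4 F) + st (A : Matrix I4 I4 F) * (A : Matrix I4 I4 F)) := by
        rw [h1, h2]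
    _ = _ := by noncomm_ring

/-- `c1 a = 0`, `a` of odd order: `a + a⁻¹` is scalar -/
theorem W_scal {a : Matrix.symplecticGroup (Fin 2) F} (ha : Odd (orderOf a)) (h : c1 a = 0) :
    ∃ μ : F, W (a : Matrix I4 I4 F) = μ • (1 : Matrix I4 I4 F) ∧ c2 a = μ * μ := by
  obtain ⟨k, hk⟩ := exists_sqrt ha
  set b := a ^ k with hb
  have h1 : c1 b = 0 := by
    rw [hk, c1_sq] at h
    exact mul_self_eq_zero.1 h
  refine ⟨c2 b, ?_, by rw [hk, c2_sq]⟩
  rw [hk]
  change W ((b : Matrix I4 I4 F) * (b : Matrix I4 I4 F)) = _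
  rw [W_mul_self, W_sq'', h1, zero_smul, zero_add]

theorem eq_one_of_W {a : Matrix.symplecticGroup (Fin 2) F} (ha : Odd (orderOf a))
    (h : W (a : Matrix I4 I4 F) = 0) : a = 1 := by
  have h1 : (a : Matrix I4 I4 F) = st (a : Matrix I4 I4 F) := CharTwo.add_eq_zero.1 h
  have h2 : a = a⁻¹ := Subtype.ext (by rw [coe_inv]; exact h1)
  obtain ⟨k, hk⟩ := exists_sqrt ha
  have h3 : a * a = 1 := by
    nth_rewrite 2 [h2]
    exact mul_inv_cancel a
  rw [hk, ← pow_add, ← two_mul, pow_mul, sq, h3, one_pow]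

/-- the element `a b` of `A` -/
theorem W_idem {x : Matrix.symplecticGroup (Fin 2) F} {f : Matrix I4 I4 F} {μ : F} (hx : Odd (orderOf x))
    (h : c1 x * c2 x = 0) (hf : f ≠ 0) (hμ : μ ≠ 0) (hxf : W (x : Matrix I4 I4 F) * f = μ • f) :
    W (x : Matrix I4 I4 F) * W (x : Matrix I4 I4 F) = μ • W (x : Matrix I4 I4 F) := by
  have key : ∀ c d : F, c • f = d • f → c = d := by
    intro c d h1
    by_contra hne
    apply hf
    have h2 : (c - d) • f = 0 := by rw [sub_smul, h1, sub_self]
    exact (smul_eq_zero.1 h2).resolve_left (sub_ne_zero.2 hne)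
  rcases mul_eq_zero.1 h with h1 | h1
  · obtain ⟨ρ, h2, -⟩ := W_scal hx h1
    rw [h2, smul_mul_assoc, one_mul] at hxf
    have h3 := key _ _ hxf
    rw [h2, h3, smul_mul_assoc, one_mul]
  · have h2 := W_sq'' x
    rw [h1, zero_smul, add_zero] at h2
    have h3 : W (x : Matrix I4 I4 F) * W (x : Matrix I4 I4 F) * f = (μ * μ) • f := by
      rw [mul_assoc, hxf, mul_smul_comm, hxf, smul_smul]
    rw [h2, smul_mul_assoc, hxf, smul_smul] at h3
    have h4 := key _ _ h3
    have h5 : c1 x = μ := mul_right_cancel₀ hμ h4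
    rw [h2, h5]

/-- the exceptional configuration -/
structure Exc (a b : Matrix.symplecticGroup (Fin 2) F) : Prop where
  comm : (a : Matrix I4 I4 F) * (b : Matrix I4 I4 F) = (b : Matrix I4 I4 F) * (a : Matrix I4 I4 F)
  Wa : W (a : Matrix I4 I4 F) = 1
  Wb : W (b : Matrix I4 I4 F) * W (b : Matrix I4 I4 F) = W (b : Matrix I4 I4 F)
  tb : (b : Matrix I4 I4 F).trace = 1

theorem exc_of {a b : Matrix.symplecticGroup (Fin 2) F} (hab : a * b = b * a) (ha : Odd (orderOf a))
    (hb : Odd (orderOf b)) (hx : Odd (orderOf (a * b))) (hy : Odd (orderOf (a * b⁻¹))) (ha1 : a ≠ 1) (hb1 : b ≠ 1)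
    (h1a : c1 a = 0) (h2b : c2 b = 0) (hcx : c1 (a * b) * c2 (a * b) = 0) (hcy : c1 (a * b⁻¹) * c2 (a * b⁻¹) = 0) :
    Exc a b := by
  obtain ⟨μ, hWa, -⟩ := W_scal ha h1a
  have hμ : μ ≠ 0 := by
    rintro rfl
    rw [zero_smul] at hWa
    exact ha1 (eq_one_of_W ha hWa)
  have hWb := W_sq'' b
  rw [h2b, zero_smul, add_zero] at hWb
  have hWb0 : W (b : Matrix I4 I4 F) ≠ 0 := fun h => hb1 (eq_one_of_W hb h)
  have hν : c1 b ≠ 0 := by
    intro h0
    obtain ⟨ρ, h2, h3⟩ := W_scal hb h0
    rw [h2b] at h3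
    rw [mul_self_eq_zero.1 h3.symm, zero_smul] at h2
    exact hWb0 h2
  set ν := c1 b with hνd
  set A : Matrix I4 I4 F := (a : Matrix I4 I4 F) with hA
  set B : Matrix I4 I4 F := (b : Matrix I4 I4 F) with hB
  set w := W B with hw
  have hcomm : A * B = B * A := congrArg Subtype.val hab
  have hcomm' : A * st B = st B * A := comm_st hcomm
  -- the idempotent `f`
  set f : Matrix I4 I4 F := 1 + ν⁻¹ • w with hf
  have hwf : w * f = 0 := by
    rw [hf, mul_add, mul_one, mul_smul_comm, hWb, smul_smul, inv_mul_cancel₀ hν, one_smul]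
    exact CharTwo.add_self_eq_zero _
  have hf0 : f ≠ 0 := by
    intro h0
    have h1 : (1 : Matrix I4 I4 F) = ν⁻¹ • w := CharTwo.add_eq_zero.1 h0
    have h2 : w = ν • (1 : Matrix I4 I4 F) := by rw [h1, smul_smul, mul_inv_cancel₀ hν, one_smul]
    exact hν (trace_eq_zero h2)
  have hBB : B * st B = 1 := mul_st b
  have hBB' : st B * B = 1 := st_mul_self b
  have hB2 : B * B * f = f := by
    have h1 : B * B = B * w + 1 := by
      rw [hw, W, mul_add, hBB, add_assoc, CharTwo.add_self_eq_zero, add_zero]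
    rw [h1, add_mul, mul_assoc, hwf, mul_zero, zero_add, one_mul]
  have hBf : B * f = f := by
    obtain ⟨k, hk⟩ := exists_sqrt hb
    have h1 : B = (B * B) ^ k := by
      have h2 : b = (b * b) ^ k := by
        rw [← sq, ← pow_mul, mul_comm 2 k, pow_mul, sq]
        exact hk
      have := congrArg Subtype.val h2
      rw [SubmonoidClass.coe_pow, Submonoid.coe_mul] at this
      exact this
    have h3 : ∀ m : ℕ, (B * B) ^ m * f = f := by
      intro m
      induction m with
      | zero => rw [pow_zero, one_mul]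
      | succ m ih => rw [pow_succ, mul_assoc, hB2, ih]
    rw [h1]
    exact h3 k
  have hBf' : st B * f = f := by
    nth_rewrite 1 [← hBf]
    rw [← mul_assoc, hBB', one_mul]
  have hsf : st f = f := by rw [hf, st_add, st_one, st_smul, hw, st_W]
  -- the two elements
  have hx1 : ((a * b : Matrix.symplecticGroup (Fin 2) F) : Matrix I4 I4 F) = A * B := rfl
  have hy1 : ((a * b⁻¹ : Matrix.symplecticGroup (Fin 2) F) : Matrix I4 I4 F) = A * st B := by
    rw [Submonoid.coe_mul, coe_inv]
  have hsA : st A * B = B * st A := (comm_st (v := a) hcomm.symm).symm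
  have hss : st A * st B = st B * st A := by
    have h := congrArg st hcomm
    rw [st_mul, st_mul] at h
    exact h.symm
  have hAA : A * st A = 1 := mul_st a
  have hAA' : st A * A = 1 := st_mul_self a
  have hP : W (A * B) = A * B + st B * st A := by
    rw [W, st_mul]
  have hQ : W (A * st B) = A * st B + B * st A := by
    rw [W, st_mul, st_st]
  have hPf : W (A * B) * f = μ • f := by
    rw [hP, ← hss, add_mul, mul_assoc, mul_assoc, hBf, hBf', ← add_mul]
    change W A * f = _
    rw [hWa, smul_mul_assoc, one_mul]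
  have hQf : W (A * st B) * f = μ • f := by
    rw [hQ, ← hsA, add_mul, mul_assoc, mul_assoc, hBf, hBf', ← add_mul]
    change W A * f = _
    rw [hWa, smul_mul_assoc, one_mul]
  have hP2 := W_idem hx hcx hf0 hμ (by rw [hx1]; exact hPf)
  have hQ2 := W_idem hy hcy hf0 hμ (by rw [hy1]; exact hQf)
  rw [hx1] at hP2
  rw [hy1] at hQ2
  have hwA : w * A = A * w := by rw [hw, W, add_mul, mul_add, hcomm, hcomm']
  have hsum : W (A * B) + W (A * st B) = μ • w := by
    rw [hP, hQ]
    have h1 : A * B + st B * st A + (A * st B + B * st A) = A * w + w * st A := by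
      rw [hw, W]; noncomm_ring
    rw [h1, ← hwA, ← mul_add]
    change w * W A = _
    rw [hWa, mul_smul_comm, mul_one]
  have hPQ0 : W (A * B) * W (A * st B) = A * A + st A * st A + (B * B + st B * st B) := by
      rw [hP, hQ]
      have e1 : A * B * (A * st B) = A * A := by
        calc A * B * (A * st B) = A * (B * A) * st B := by simp only [mul_assoc]
          _ = A * A * (B * st B) := by rw [← hcomm]; simp only [mul_assoc]
          _ = A * A := by rw [hBB, mul_one]
      have e2 : A * B * (B * st A) = B * B := by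
        calc A * B * (B * st A) = A * (B * (st A * B)) := by rw [hsA]; simp only [mul_assoc]
          _ = A * ((B * st A) * B) := by simp only [mul_assoc]
          _ = (A * st A) * (B * B) := by rw [← hsA]; simp only [mul_assoc]
          _ = B * B := by rw [hAA, one_mul]
      have e3 : st B * st A * (A * st B) = st B * st B := by
        calc st B * st A * (A * st B) = st B * (st A * A) * st B := by simp only [mul_assoc]
          _ = st B * st B := by rw [hAA', mul_one]
      have e4 : st B * st A * (B * st A) = st A * st A := by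
        calc st B * st A * (B * st A) = st B * (st A * B) * st A := by simp only [mul_assoc]
          _ = (st B * B) * (st A * st A) := by rw [hsA]; simp only [mul_assoc]
          _ = st A * st A := by rw [hBB', one_mul]
      rw [add_mul, mul_add, mul_add, e1, e2, e3, e4]
      abel
  have hPQ : W (A * B) * W (A * st B) = (μ * μ) • (1 : Matrix I4 I4 F) + ν • w := by
    have h2 : A * A + st A * st A = (μ * μ) • (1 : Matrix I4 I4 F) := by
      have h3 := W_mul_self a
      rw [← hA, hWa, W, st_mul] at h3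
      rw [h3, smul_mul_assoc, one_mul, smul_smul]
    have h3 : B * B + st B * st B = ν • w := by
      have h4 := W_mul_self b
      rw [← hB, ← hw, hWb, W, st_mul] at h4
      exact h4
    rw [hPQ0, h2, h3]
  have hQP : W (A * st B) * W (A * B) = W (A * B) * W (A * st B) := by
    have h1 : W (A * st B) * W (A * B) = A * A + st A * st A + (B * B + st B * st B) := by
      rw [hP, hQ]
      have e1 : A * st B * (A * B) = A * A := by
        calc A * st B * (A * B) = A * (st B * A) * B := by simp only [mul_assoc]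
          _ = A * A * (st B * B) := by rw [← hcomm']; simp only [mul_assoc]
          _ = A * A := by rw [hBB', mul_one]
      have e2 : A * st B * (st B * st A) = st B * st B := by
        calc A * st B * (st B * st A) = A * (st B * (st A * st B)) := by rw [hss]; simp only [mul_assoc]
          _ = A * ((st B * st A) * st B) := by simp only [mul_assoc]
          _ = (A * st A) * (st B * st B) := by rw [← hss]; simp only [mul_assoc]
          _ = st B * st B := by rw [hAA, one_mul]
      have e3 : B * st A * (A * B) = B * B := by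
        calc B * st A * (A * B) = B * (st A * A) * B := by simp only [mul_assoc]
          _ = B * B := by rw [hAA', mul_one]
      have e4 : B * st A * (st B * st A) = st A * st A := by
        calc B * st A * (st B * st A) = B * (st A * st B) * st A := by simp only [mul_assoc]
          _ = (B * st B) * (st A * st A) := by rw [hss]; simp only [mul_assoc]
          _ = st A * st A := by rw [hBB, one_mul]
      rw [add_mul, mul_add, mul_add, e1, e2, e3, e4]
      abel
    rw [h1, hPQ0]
  have hkey : ∀ c d : F, c • w = d • w → c = d := by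
    intro c d h1
    by_contra hne
    apply hWb0
    have h2 : (c - d) • w = 0 := by rw [sub_smul, h1, sub_self]
    exact (smul_eq_zero.1 h2).resolve_left (sub_ne_zero.2 hne)
  set P := W (A * B) with hPd
  set Q := W (A * st B) with hQd
  have hν1 : ν = 1 := by
    have h1 : (P + Q) * (P + Q) = μ • (P + Q) := by
      have h2 : (P + Q) * (P + Q) = P * P + Q * Q + (P * Q + Q * P) := by noncomm_ring
      rw [h2, hQP, CharTwo.add_self_eq_zero, add_zero, hP2, hQ2, smul_add]
    rw [hsum, smul_mul_smul_comm, hWb, smul_smul, smul_smul] at h1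
    have h3 := hkey _ _ h1
    exact mul_left_cancel₀ (mul_ne_zero hμ hμ) (by rw [h3, mul_one])
  have hμ1 : μ = 1 := by
    have h1 : (P * Q) * (P * Q) = (μ * μ) • (P * Q) := by
      calc (P * Q) * (P * Q) = P * (Q * P) * Q := by simp only [mul_assoc]
        _ = (P * P) * (Q * Q) := by rw [hQP]; simp only [mul_assoc]
        _ = _ := by rw [hP2, hQ2, smul_mul_smul_comm]
    rw [hPQ, hν1, one_smul] at h1
    rw [hν1, one_smul] at hWb
    have h2 : ((μ * μ) • (1 : Matrix I4 I4 F) + w) * ((μ * μ) • (1 : Matrix I4 I4 F) + w) =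
        (μ * μ * (μ * μ)) • (1 : Matrix I4 I4 F) + w := by
      have h3 : ((μ * μ) • (1 : Matrix I4 I4 F) + w) * ((μ * μ) • (1 : Matrix I4 I4 F) + w) =
        (μ * μ * (μ * μ)) • (1 : Matrix I4 I4 F) + ((μ * μ) • w + (μ * μ) • w) + w * w := by
        simp only [add_mul, mul_add, smul_mul_assoc, mul_smul_comm, one_mul, mul_one]
        module
      rw [h3, hWb, CharTwo.add_self_eq_zero, add_zero]
    rw [h2, smul_add, smul_smul] at h1
    have h3 := hkey 1 (μ * μ) (by rw [one_smul]; exact add_left_cancel h1)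
    have h4 : (μ - 1) * (μ - 1) = 0 := by
      have h5 : (2 : F) = 0 := CharTwo.two_eq_zero
      linear_combination (-1 : F) * h3 + (1 - μ) * h5
    exact sub_eq_zero.1 (mul_self_eq_zero.1 h4)
  refine ⟨hcomm, ?_, ?_, hν1⟩
  · rw [← hA, hWa, hμ1, one_smul]
  · rw [← hB, ← hw, hWb, hν1, one_smul]

/-- the regular element in the exceptional case -/
theorem Exc.exists_reg {a b : Matrix.symplecticGroup (Fin 2) F} (h : Exc a b) {l : F} (hl0 : l ≠ 0) (hl1 : l ≠ 1)
    (h3 : ∀ x : F, x ^ 3 = 1 → x = 1) :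
    ∃ v : Matrix.symplecticGroup (Fin 2) F, Reg v ∧ ∀ X : Matrix I4 I4 F, X * a = a * X → X * b = b * X →
      X * v = v * X := by
  obtain ⟨hcomm, hWa, hWb, htb⟩ := h
  set A : Matrix I4 I4 F := (a : Matrix I4 I4 F) with hA
  set B : Matrix I4 I4 F := (b : Matrix I4 I4 F) with hB
  set e := W B with he
  have hAA : A * st A = 1 := mul_st a
  have hBB : B * st B = 1 := mul_st b
  have hse : st e = e := st_W B
  set f : Matrix I4 I4 F := 1 + e with hf
  have hsf : st f = f := by rw [hf, st_add, st_one, hse]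
  have hef : e * f = 0 := by
    rw [hf, mul_add, mul_one, hWb]; exact CharTwo.add_self_eq_zero _
  have hfe : f * e = 0 := by
    rw [hf, add_mul, one_mul, hWb]; exact CharTwo.add_self_eq_zero _
  have hff : f * f = f := by
    nth_rewrite 1 [hf]
    rw [add_mul, one_mul, hef, add_zero]
  have hfe1 : f + e = 1 := by
    rw [hf, add_assoc, CharTwo.add_self_eq_zero, add_zero]
  have hD : 1 + l + l ^ 2 ≠ 0 := by
    intro h0
    apply hl1
    apply h3
    have h2 : (2 : F) = 0 := CharTwo.two_eq_zero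
    linear_combination (l - 1) * h0
  set D := 1 + l + l ^ 2 with hDd
  -- `z`
  set z : Matrix I4 I4 F := (D⁻¹ * (1 + l ^ 2)) • (1 : Matrix I4 I4 F) + (D⁻¹ * l ^ 2) • A with hz
  have hstz : st z = (D⁻¹ * (1 + l ^ 2)) • (1 : Matrix I4 I4 F) + (D⁻¹ * l ^ 2) • st A := by
    rw [hz, st_add, st_smul, st_smul, st_one]
  have hzz : z * st z = 1 := by
    rw [hstz, hz]
    have h1 : ((D⁻¹ * (1 + l ^ 2)) • (1 : Matrix I4 I4 F) + (D⁻¹ * l ^ 2) • A) *
      ((D⁻¹ * (1 + l ^ 2)) • (1 : Matrix I4 I4 F) + (D⁻¹ * l ^ 2) • st A) =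
      ((D⁻¹ * (1 + l ^ 2)) * (D⁻¹ * (1 + l ^ 2))) • (1 : Matrix I4 I4 F) + ((D⁻¹ * (1 + l ^ 2)) * (D⁻¹ * l ^ 2)) • (A + st A)
        + ((D⁻¹ * l ^ 2) * (D⁻¹ * l ^ 2)) • (A * st A) := by
      simp only [add_mul, mul_add, smul_mul_assoc, mul_smul_comm, one_mul, mul_one]
      module
    rw [h1, hAA]
    change _ + _ • W A + _ = _
    rw [hWa, ← add_smul, ← add_smul]
    have h2 : D⁻¹ * (1 + l ^ 2) * (D⁻¹ * (1 + l ^ 2)) + D⁻¹ * (1 + l ^ 2) * (D⁻¹ * l ^ 2) + D⁻¹ * l ^ 2 * (D⁻¹ * l ^ 2) = 1 := by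
      have h5 : (2 : F) = 0 := CharTwo.two_eq_zero
      have h6 : D⁻¹ * (1 + l ^ 2) * (D⁻¹ * (1 + l ^ 2)) + D⁻¹ * (1 + l ^ 2) * (D⁻¹ * l ^ 2) + D⁻¹ * l ^ 2 * (D⁻¹ * l ^ 2) =
        (D⁻¹ * D) * (D⁻¹ * D) := by
        rw [hDd]
        linear_combination ((1 + l + l ^ 2)⁻¹) ^ 2 * (l ^ 4 - l - l ^ 3) * h5
      rw [h6, inv_mul_cancel₀ hD, mul_one]
    rw [h2, one_smul]
  have hAB' : A * st B = st B * A := comm_st (v := b) hcomm
  have hAe : A * e = e * A := by rw [he, W, mul_add, add_mul, hcomm, hAB']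
  have hze : z * e = e * z := by
    rw [hz]
    simp only [add_mul, mul_add, smul_mul_assoc, mul_smul_comm, one_mul, mul_one, hAe]
  have hzf : z * f = f * z := by rw [hf, mul_add z 1 e, add_mul 1 e z, mul_one z, one_mul z, hze]
  have hBe : B * e = e * B := (W_self_comm b).symm
  set V : Matrix I4 I4 F := z * f + B * e with hV
  have hsV : st V = f * st z + e * st B := by rw [hV, st_add, st_mul, st_mul, hsf, hse]
  have hVV : V * st V = 1 := by
    rw [hsV, hV]
    have h1 : (z * f + B * e) * (f * st z + e * st B) = z * (f * f) * st z + z * (f * e) * st B + B * (e * f) * st z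
        + B * (e * e) * st B := by noncomm_ring
    rw [h1, hff, hfe, hef, hWb, mul_zero, zero_mul, mul_zero, zero_mul, add_zero, add_zero, hzf, hBe, mul_assoc, mul_assoc,
      hzz, hBB, mul_one, mul_one, hfe1]
  set τ := D⁻¹ * l ^ 2 with hτ
  have hWz : z + st z = τ • (1 : Matrix I4 I4 F) := by
    rw [hstz, hz]
    have h1 : (D⁻¹ * (1 + l ^ 2)) • (1 : Matrix I4 I4 F) + τ • A + ((D⁻¹ * (1 + l ^ 2)) • (1 : Matrix I4 I4 F) + τ • st A)
      = ((D⁻¹ * (1 + l ^ 2)) • (1 : Matrix I4 I4 F) + (D⁻¹ * (1 + l ^ 2)) • (1 : Matrix I4 I4 F)) + τ • (A + st A) := by module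
    rw [h1, CharTwo.add_self_eq_zero, zero_add]
    change τ • W A = _
    rw [hWa]
  have hWV : W V = τ • (1 : Matrix I4 I4 F) + (τ + 1) • e := by
    rw [W, hsV, hV, hzf, hBe]
    have h1 : f * z + e * B + (f * st z + e * st B) = f * (z + st z) + e * (B + st B) := by noncomm_ring
    rw [h1, hWz]
    change _ + e * W B = _
    rw [← he, hWb, mul_smul_comm, mul_one, hf]
    module
  have hτ0 : τ ≠ 0 := mul_ne_zero (inv_ne_zero hD) (pow_ne_zero 2 hl0)
  have hτ1 : τ + 1 ≠ 0 := by
    intro h0
    have h1 : τ = 1 := CharTwo.add_eq_zero.1 h0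
    apply hl1
    have h2 : D * τ = D := by rw [h1, mul_one]
    rw [hτ, mul_inv_cancel_left₀ hD, hDd] at h2
    have h5 : (2 : F) = 0 := CharTwo.two_eq_zero
    linear_combination (-1 : F) * h2 - h5
  have htV : V.trace = τ + 1 := by
    rw [trace_W, hWV]
    have h1 := trace_W B
    rw [htb, ← he] at h1
    simp only [Matrix.add_apply, Matrix.smul_apply, Matrix.one_apply, if_true, smul_eq_mul, mul_one]
    have h5 : (2 : F) = 0 := CharTwo.two_eq_zero
    linear_combination (-(τ + 1)) * h1 + τ * h5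
  let v : Matrix.symplecticGroup (Fin 2) F := ⟨V, (mem_iff V).2 hVV⟩
  refine ⟨v, ⟨?_, ?_⟩, ?_⟩
  · change V.trace ≠ 0
    rw [htV]
    exact hτ1
  · have h1 := W_sq' v
    change W V * W V = V.trace • W V + _ at h1
    have h2 : W V * W V = (τ * τ) • (1 : Matrix I4 I4 F) + ((τ + 1) * (τ + 1)) • e := by
      rw [hWV]
      have h3 : (τ • (1 : Matrix I4 I4 F) + (τ + 1) • e) * (τ • (1 : Matrix I4 I4 F) + (τ + 1) • e) =
        (τ * τ) • (1 : Matrix I4 I4 F) + ((τ * (τ + 1)) • e + (τ * (τ + 1)) • e) + ((τ + 1) * (τ + 1)) • (e * e) := by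
        simp only [add_mul, mul_add, smul_mul_assoc, mul_smul_comm, one_mul, mul_one]
        module
      rw [h3, hWb, CharTwo.add_self_eq_zero, add_zero]
    rw [h2, htV, hWV] at h1
    intro h0
    rw [h0, zero_smul, add_zero, smul_add, smul_smul, smul_smul] at h1
    have h3 := add_right_cancel h1
    have h4 := congrFun (congrFun h3 (.inl 0)) (.inl 0)
    simp only [Matrix.smul_apply, Matrix.one_apply, if_true, smul_eq_mul, mul_one] at h4
    apply hτ0
    linear_combination (-1 : F) * h4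
  · intro X hXa hXb
    have hXe : X * e = e * X := by
      rw [he, W, mul_add, add_mul, hXb, comm_st (v := b) hXb]
    have hXf : X * f = f * X := by rw [hf, mul_add X 1 e, add_mul 1 e X, hXe, mul_one X, one_mul X]
    have hXz : X * z = z * X := by
      rw [hz]
      simp only [add_mul, mul_add, smul_mul_assoc, mul_smul_comm, one_mul, mul_one, hXa]
    change X * V = V * X
    rw [hV, mul_add X (z * f) (B * e), add_mul (z * f) (B * e) X, ← mul_assoc X z f, hXz, mul_assoc z X f, hXf,
      ← mul_assoc z f X, ← mul_assoc X B e, hXb, mul_assoc B X e, hXe, ← mul_assoc B e X]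

end Cfsg.Agent.H88.FC
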