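import Mathlib
import Cfsg.Agent.H88.FC.Quad

/-!
# The second element `v₂ = (1 + λ v)(1 + λ v⁻¹)⁻¹` (helper88, S5764, SP4G)
-/

set_option autoImplicit false
set_option linter.unusedSectionVars false

namespace Cfsg.Agent.H88.FC

open Matrix Cfsg.Agent.ClassicalGeometry.Sp4Graph

variable {F : Type*} [Field F] [CharP F 2]

theorem exists_v2 {v : Matrix.symplecticGroup (Fin 2) F} {l : F}
    (h : (1 + l ^ 2) ^ 2 + (v : Matrix I4 I4 F).trace * (l * (1 + l ^ 2)) + (graphHom F v : Matrix I4 I4 F).trace * l ^ 2 ≠ 0) :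
    ∃ v₂ : Matrix.symplecticGroup (Fin 2) F, v₂ * v = v * v₂ ∧
      (v₂ : Matrix I4 I4 F) * (1 + l • st (v : Matrix I4 I4 F)) = 1 + l • (v : Matrix I4 I4 F) := by
  have hw2 := W_sq' v
  set V : Matrix I4 I4 F := (v : Matrix I4 I4 F) with hV
  set k₁ := V.trace with hk1
  set k₂ := (graphHom F v : Matrix I4 I4 F).trace with hk2
  set H := (1 + l ^ 2) ^ 2 + k₁ * (l * (1 + l ^ 2)) + k₂ * l ^ 2 with hH
  set w := W V with hw
  set m : Matrix I4 I4 F := 1 + l • V with hm
  set m' : Matrix I4 I4 F := 1 + l • st V with hm'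
  have hsm : st m = m' := by rw [hm, st_add, st_one, st_smul]
  have hsm' : st m' = m := by rw [← hsm, st_st]
  have hVV : V * st V = 1 := mul_st v
  have hVV' : st V * V = 1 := st_mul_self v
  have hmm : m * m' = (1 + l ^ 2) • (1 : Matrix I4 I4 F) + l • w := by
    rw [hm, hm', hw, W]
    have h1 : (1 + l • V) * (1 + l • st V) = 1 + l • (V + st V) + (l * l) • (V * st V) := by
      simp only [add_mul, mul_add, smul_mul_assoc, mul_smul_comm, one_mul, mul_one]
      module
    rw [h1, hVV]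
    module
  have hmm' : m' * m = (1 + l ^ 2) • (1 : Matrix I4 I4 F) + l • w := by
    rw [hm, hm', hw, W]
    have h1 : (1 + l • st V) * (1 + l • V) = 1 + l • (V + st V) + (l * l) • (st V * V) := by
      simp only [add_mul, mul_add, smul_mul_assoc, mul_smul_comm, one_mul, mul_one]
      module
    rw [h1, hVV']
    module
  set u : Matrix I4 I4 F := H⁻¹ • ((1 + l ^ 2 + l * k₁) • (1 : Matrix I4 I4 F) + l • w) with hu
  have huK : InK w u := by
    refine InK.smul _ ?_
    exact ⟨_, _, rfl⟩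
  have hDu : (m * m') * u = 1 := by
    have h1 : ((1 + l ^ 2) • (1 : Matrix I4 I4 F) + l • w) * ((1 + l ^ 2 + l * k₁) • (1 : Matrix I4 I4 F) + l • w) =
        ((1 + l ^ 2) * (1 + l ^ 2 + l * k₁)) • (1 : Matrix I4 I4 F) +
          ((1 + l ^ 2) * l + l * (1 + l ^ 2 + l * k₁)) • w + (l * l) • (w * w) := by
      simp only [add_mul, mul_add, smul_mul_assoc, mul_smul_comm, one_mul, mul_one]
      module
    have h2 : ((1 + l ^ 2) * l + l * (1 + l ^ 2 + l * k₁)) = l * l * k₁ := by
      have h5 : (2 : F) = 0 := CharTwo.two_eq_zero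
      linear_combination ((1 + l ^ 2) * l) * h5
    have h3 : ((1 + l ^ 2) * (1 + l ^ 2 + l * k₁)) • (1 : Matrix I4 I4 F) + (l * l * k₁) • w +
        (l * l) • (k₁ • w + k₂ • (1 : Matrix I4 I4 F)) = H • (1 : Matrix I4 I4 F) +
          ((l * l * k₁) • w + (l * l * k₁) • w) := by
      rw [hH]; module
    have h4 : ((1 + l ^ 2) • (1 : Matrix I4 I4 F) + l • w) * ((1 + l ^ 2 + l * k₁) • (1 : Matrix I4 I4 F) + l • w) =
        H • (1 : Matrix I4 I4 F) := by
      rw [h1, hw2, h2, h3, CharTwo.add_self_eq_zero, add_zero]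
    rw [hmm, hu, mul_smul_comm, h4, smul_smul, inv_mul_cancel₀ h, one_smul]
  have hwm : w * m = m * w := by
    rw [hm]
    simp only [mul_add, add_mul, mul_smul_comm, smul_mul_assoc, mul_one, one_mul]
    rw [hw, hV, W_self_comm]
  have hwm' : w * m' = m' * w := by
    rw [hm']
    simp only [mul_add, add_mul, mul_smul_comm, smul_mul_assoc, mul_one, one_mul]
    rw [hw, hV, W_st_comm]
  have hum : u * m = m * u := huK.comm_of hwm
  have hum' : u * m' = m' * u := huK.comm_of hwm'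
  have hsu : st u = u := huK.st (st_W V)
  clear_value u m m'
  have hc : m' * m = m * m' := by rw [hmm, hmm']
  have hmem : (m * m * u) * st (m * m * u) = 1 := by
    rw [st_mul, st_mul, hsu, hsm]
    calc m * m * u * (u * (m' * m')) = m * (m * (u * u)) * (m' * m') := by simp only [mul_assoc]
      _ = m * m * m' * m' * (u * u) := by
        have e0 : Commute u m' := hum'
        have e1 : (u * u) * (m' * m') = (m' * m') * (u * u) :=
          ((e0.mul_right e0).mul_left (e0.mul_right e0)).eq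
        calc m * (m * (u * u)) * (m' * m') = m * m * ((u * u) * (m' * m')) := by simp only [mul_assoc]
          _ = _ := by rw [e1]; simp only [mul_assoc]
      _ = (m * m') * (m * m') * (u * u) := by
        have e2 : m * m * m' * m' = (m * m') * (m * m') := by
          calc m * m * m' * m' = m * (m * m') * m' := by simp only [mul_assoc]
            _ = m * (m' * m) * m' := by rw [hc]
            _ = _ := by simp only [mul_assoc]
        rw [e2]
      _ = (m * m') * ((m * m') * u) * u := by simp only [mul_assoc]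
      _ = 1 := by rw [hDu, mul_one, hDu]
  refine ⟨⟨m * m * u, (mem_iff _).2 hmem⟩, ?_, ?_⟩
  · apply Subtype.ext
    change m * m * u * V = V * (m * m * u)
    have h1 : m * V = V * m := by
      rw [hm, mul_add, add_mul, mul_one, one_mul, mul_smul_comm, smul_mul_assoc]
    have h2 : u * V = V * u := huK.comm_of (W_self_comm v)
    rw [mul_assoc, h2, ← mul_assoc, mul_assoc m m V, h1, ← mul_assoc, h1]
    simp only [mul_assoc]
  · change m * m * u * m' = m
    rw [mul_assoc, hum', mul_assoc, ← mul_assoc m m', hDu, mul_one]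

/-- a generator of `F` avoiding the eigenvalues -/
theorem exists_lam [Finite F] (hq : 4 ≤ Nat.card F) (h3 : ∀ x : F, x ^ 3 = 1 → x = 1) {k₁ k₂ : F} (hk : k₁ ≠ 0) :
    ∃ l : F, (1 + l ^ 2) ^ 2 + k₁ * (l * (1 + l ^ 2)) + k₂ * l ^ 2 ≠ 0 ∧
      ∀ φ : F ≃+* F, φ l = l → ∀ a, φ a = a := by
  have h2 : (2 : F) = 0 := CharTwo.two_eq_zero
  obtain ⟨g, hg⟩ := IsCyclic.exists_generator (α := Fˣ)
  have hfix : ∀ φ : F ≃+* F, φ g = g → ∀ a, φ a = a := by
    intro φ hφ a
    by_cases ha : a = 0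
    · rw [ha, map_zero]
    · obtain ⟨k, hk⟩ := Subgroup.mem_zpowers_iff.1 (hg (Units.mk0 a ha))
      have h4 : a = (g : F) ^ k := by
        have := congrArg Units.val hk
        rw [Units.val_zpow_eq_zpow_val] at this
        exact this.symm
      rw [h4, map_zpow₀, hφ]
  have hg0 : (g : F) ≠ 0 := g.ne_zero
  have hsq : ∀ (φ : F ≃+* F) (x : F), φ (x ^ 2) = x ^ 2 → φ x = x := by
    intro φ x hx
    rw [map_pow] at hx
    exact CharTwo.sq_injective hx
  by_contra hcon
  push Not at hcon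
  have key : ∀ l : F, (∀ φ : F ≃+* F, φ l = l → ∀ a, φ a = a) →
      (1 + l ^ 2) ^ 2 + k₁ * (l * (1 + l ^ 2)) + k₂ * l ^ 2 = 0 := by
    intro l hl
    by_contra hne
    obtain ⟨φ, h4, a, h5⟩ := hcon l hne
    exact h5 (hl φ h4 a)
  have e1 := key g hfix
  have e2 := key (g ^ 2) fun φ h => hfix φ (hsq φ _ h)
  have e3 := key (g ^ 4) fun φ h => hfix φ (hsq φ _ (hsq φ _ (by rw [← pow_mul]; exact h)))
  set x : F := (g : F) with hx
  set κ : F := x + x⁻¹ with hκ
  have hP : ∀ l : F, l ≠ 0 → (1 + l ^ 2) ^ 2 + k₁ * (l * (1 + l ^ 2)) + k₂ * l ^ 2 = 0 →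
      (l + l⁻¹) ^ 2 + k₁ * (l + l⁻¹) + k₂ = 0 := by
    intro l hl h
    have h4 : (l + l⁻¹) ^ 2 + k₁ * (l + l⁻¹) + k₂ =
      (l⁻¹) ^ 2 * ((1 + l ^ 2) ^ 2 + k₁ * (l * (1 + l ^ 2)) + k₂ * l ^ 2) := by
      field_simp
      ring
    rw [h4, h, mul_zero]
  have f1 := hP x hg0 e1
  have f2 := hP (x ^ 2) (pow_ne_zero 2 hg0) e2
  have f3 := hP (x ^ 4) (pow_ne_zero 4 hg0) e3
  have g2 : x ^ 2 + (x ^ 2)⁻¹ = κ ^ 2 := by
    rw [hκ, CharTwo.add_sq, inv_pow]
  have g3 : x ^ 4 + (x ^ 4)⁻¹ = κ ^ 4 := by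
    rw [show (4 : ℕ) = 2 * 2 from rfl, pow_mul, pow_mul, ← g2, CharTwo.add_sq, inv_pow]
  rw [← hκ] at f1
  rw [g2] at f2
  rw [g3] at f3
  have hg1 : x ≠ 1 := by
    intro h1
    have h4 : ∀ y : Fˣ, y = 1 := by
      intro y
      obtain ⟨k, hk⟩ := Subgroup.mem_zpowers_iff.1 (hg y)
      have h5 : g = 1 := Units.ext h1
      rw [← hk, h5, _root_.one_zpow]
    have h5 : Nat.card F ≤ 2 := by
      have : Fintype F := Fintype.ofFinite F
      rw [Nat.card_eq_fintype_card]
      classical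
      have : (Finset.univ : Finset F) ⊆ {0, 1} := by
        intro t _
        by_cases h0 : t = 0
        · simp [h0]
        · have := congrArg Units.val (h4 (Units.mk0 t h0))
          simp only [Units.val_mk0, Units.val_one] at this
          simp [this]
      exact (Finset.card_le_card this).trans (Finset.card_le_two)
    omega
  have hκ0 : κ ≠ 0 := by
    intro h0
    apply hg1
    have h4 : x * κ = x ^ 2 + 1 := by rw [hκ]; field_simp
    rw [h0, mul_zero] at h4
    have h5 : x ^ 2 = 1 ^ 2 := by linear_combination (-1 : F) * h4 - h2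
    exact CharTwo.sq_injective h5
  have hκ1 : κ ≠ 1 := by
    intro h0
    apply hg1
    apply h3
    have h4 : x * κ = x ^ 2 + 1 := by rw [hκ]; field_simp
    rw [h0, mul_one] at h4
    linear_combination (-(x - 1)) * h4 + (x ^ 2 - x) * h2
  have hk1 : k₁ = κ ^ 2 + κ := by
    have h4 : (κ ^ 2 + κ) * (κ ^ 2 + κ + k₁) = 0 := by
      linear_combination f1 + f2 + (κ ^ 3 - k₂) * h2
    rcases mul_eq_zero.1 h4 with h5 | h5
    · exfalso
      rcases mul_eq_zero.1 (show κ * (κ + 1) = 0 by linear_combination h5) with h6 | h6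
      · exact hκ0 h6
      · exact hκ1 (CharTwo.add_eq_zero.1 h6)
    · exact (CharTwo.add_eq_zero.1 h5).symm
  have hk1' : k₁ = k₁ ^ 2 := by
    have h4 : k₁ ^ 2 * (k₁ ^ 2 + k₁) = 0 := by
      have h5 : k₁ ^ 2 = κ ^ 4 + κ ^ 2 := by rw [hk1]; linear_combination (κ ^ 3) * h2
      rw [h5]
      linear_combination f2 + f3 + (κ ^ 6 - k₂) * h2
    rcases mul_eq_zero.1 h4 with h5 | h5
    · exact absurd (pow_eq_zero_iff (two_ne_zero) |>.1 h5) hk
    · exact (CharTwo.add_eq_zero.1 h5).symm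
  have hk11 : k₁ = 1 := by
    have h4 : k₁ * (k₁ - 1) = 0 := by linear_combination (-1 : F) * hk1'
    exact sub_eq_zero.1 ((mul_eq_zero.1 h4).resolve_left hk)
  apply hκ1
  apply h3
  rw [hk11] at hk1
  linear_combination (-(κ - 1)) * hk1 + (κ - 1) * h2

end Cfsg.Agent.H88.FC
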