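import Mathlib
import Cfsg.Agent.Involutions.BaerSuzuki

/-!
# Zenkov's theorem (helper88, S5764, SP4G)

* `zenkov` : `A`, `B` abelian subgroups of a finite group, `A ∩ B` minimal among the `A ∩ B^g`: the normal closure of
  an element of prime power order of `A ∩ B` is a `p`-group;
* `exists_inf_conj` : an abelian subgroup of a finite nonabelian simple group meets some conjugate trivially.
-/

set_option autoImplicit false

namespace Cfsg.Agent.H88.FC

universe u

/-- **Zenkov.** -/
theorem zenkov (p : ℕ) [Fact p.Prime] (n : ℕ) : ∀ (G : Type u) [Group G] [Finite G], Nat.card G ≤ n →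
    ∀ A B : Subgroup G, (∀ a ∈ A, ∀ b ∈ A, a * b = b * a) → (∀ a ∈ B, ∀ b ∈ B, a * b = b * a) →
    (∀ g : G, (∀ a ∈ A, g⁻¹ * a * g ∈ B → a ∈ B) → ∀ a ∈ A, a ∈ B → g⁻¹ * a * g ∈ B) →
    ∀ x : G, x ∈ A → x ∈ B → (∃ k : ℕ, x ^ p ^ k = 1) → IsPGroup p (Subgroup.normalClosure {x} : Subgroup G) := by
  induction n with
  | zero =>
    intro G _ _ h
    exact absurd h (by simp [Nat.card_pos.ne'])
  | succ n ih =>
    intro G _ _ hn A B hA hB hmin x hxA hxB hx
    have hz : ∀ y : G, (∃ k : ℕ, y ^ p ^ k = 1) → IsPGroup p (Subgroup.zpowers y) := by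
      rintro y ⟨k, hk⟩ ⟨z, hz⟩
      obtain ⟨m, rfl⟩ := Subgroup.mem_zpowers_iff.1 hz
      refine ⟨k, Subtype.ext ?_⟩
      change (y ^ m) ^ p ^ k = 1
      rw [← zpow_natCast, ← zpow_mul, mul_comm, zpow_mul, zpow_natCast, hk, one_zpow]
    let C : G → Subgroup G := fun g => B.map (MulAut.conj g).toMonoidHom
    have hC : ∀ g a : G, a ∈ C g ↔ g⁻¹ * a * g ∈ B := by
      intro g a
      constructor
      · rintro ⟨b, hb, rfl⟩
        change g⁻¹ * (g * b * g⁻¹) * g ∈ B
        simpa [mul_assoc] using hb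
      · intro h
        refine ⟨_, h, ?_⟩
        change g * (g⁻¹ * a * g) * g⁻¹ = a
        group
    by_cases hgen : ∃ g : G, A ⊔ C g = ⊤
    · obtain ⟨g, hg⟩ := hgen
      have hcent : ∀ a : G, a ∈ A → a ∈ C g → ∀ t : G, a * t = t * a := by
        intro a ha1 ha2 t
        have h1 : A ⊔ C g ≤ Subgroup.centralizer {a} := by
          rw [sup_le_iff]
          constructor
          · intro b hb
            rw [Subgroup.mem_centralizer_singleton_iff]
            exact hA b hb a ha1
          · intro b hb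
            rw [Subgroup.mem_centralizer_singleton_iff]
            rw [hC] at ha2 hb
            have h2 := hB _ hb _ ha2
            have h3 : g⁻¹ * (b * a) * g = g⁻¹ * (a * b) * g := by
              calc g⁻¹ * (b * a) * g = g⁻¹ * b * g * (g⁻¹ * a * g) := by group
                _ = _ := by rw [h2]; group
            exact mul_left_cancel (mul_right_cancel h3)
        have h2 : t ∈ Subgroup.centralizer {a} := h1 (by rw [hg]; trivial)
        exact (Subgroup.mem_centralizer_singleton_iff.1 h2).symm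
      have h1 : ∀ a ∈ A, g⁻¹ * a * g ∈ B → a ∈ B := by
        intro a ha hb
        have h2 := hcent a ha ((hC g a).2 hb) g
        rw [mul_assoc, h2, inv_mul_cancel_left] at hb
        exact hb
      have h2 := hmin g h1 x hxA hxB
      have h3 := hcent x hxA ((hC g x).2 h2)
      have h4 : Subgroup.normalClosure {x} ≤ Subgroup.zpowers x := by
        have : (Subgroup.zpowers x).Normal := ⟨fun m hm t => by
          obtain ⟨k, rfl⟩ := Subgroup.mem_zpowers_iff.1 hm
          have h5 : Commute t x := (h3 t).symm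
          rw [(h5.zpow_right k).eq, mul_inv_cancel_right]
          exact hm⟩
        apply Subgroup.normalClosure_le_normal
        rw [Set.singleton_subset_iff]
        exact Subgroup.mem_zpowers x
      exact (hz x hx).to_le h4
    · push Not at hgen
      apply Involutions.BaerSuzuki.baer_suzuki_element
      intro g
      set H : Subgroup G := A ⊔ C g with hH
      have hAH : A ≤ H := le_sup_left
      have hCH : C g ≤ H := le_sup_right
      have hcard : Nat.card H ≤ n := by
        have h1 : Nat.card H < Nat.card G := by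
          rw [← Nat.card_congr (Subgroup.topEquiv (G := G)).toEquiv]
          exact lt_of_le_of_ne (Subgroup.card_le_of_le le_top)
            (fun h => hgen g (Subgroup.eq_of_le_of_card_ge le_top h.ge))
        omega
      have hxH : x ∈ H := hAH hxA
      have hyH : g * x * g⁻¹ ∈ H := by
        apply hCH
        rw [hC]
        simpa [mul_assoc] using hxB
      have h1 := ih H hcard (A.subgroupOf H) (B.subgroupOf H)
        (fun a ha b hb => Subtype.ext (hA _ ha _ hb)) (fun a ha b hb => Subtype.ext (hB _ ha _ hb))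
        (fun h h1 a ha hb => by
          refine hmin h ?_ a ha hb
          intro c hc1 hc2
          exact h1 ⟨c, hAH hc1⟩ hc1 hc2) ⟨x, hxH⟩ hxA hxB (by
            obtain ⟨k, hk⟩ := hx
            exact ⟨k, Subtype.ext hk⟩)
      have h2 : IsPGroup p (Subgroup.zpowers (⟨g * x * g⁻¹, hyH⟩ : H)) := by
        obtain ⟨k, hk⟩ := hx
        rintro ⟨z, hz⟩
        obtain ⟨m, rfl⟩ := Subgroup.mem_zpowers_iff.1 hz
        refine ⟨k, Subtype.ext (Subtype.ext ?_)⟩
        change ((g * x * g⁻¹) ^ m) ^ p ^ k = 1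
        rw [← zpow_natCast, ← zpow_mul, mul_comm, zpow_mul, zpow_natCast, conj_pow, hk]
        simp
      have h3 : IsPGroup p (Subgroup.zpowers (⟨g * x * g⁻¹, hyH⟩ : H) ⊔ Subgroup.normalClosure {(⟨x, hxH⟩ : H)} : Subgroup H) :=
        IsPGroup.to_sup_of_normal_right h2 h1
      have h4 := h3.map H.subtype
      refine h4.to_le ?_
      rw [Subgroup.closure_le]
      rintro y (rfl | hy)
      · exact ⟨⟨y, hxH⟩, Subgroup.mem_sup_right (Subgroup.subset_normalClosure rfl), rfl⟩
      · rw [Set.mem_singleton_iff] at hy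
        subst hy
        exact ⟨⟨_, hyH⟩, Subgroup.mem_sup_left (Subgroup.mem_zpowers _), rfl⟩

/-- an abelian subgroup of a finite nonabelian simple group meets some conjugate trivially -/
theorem exists_inf_conj {T : Type u} [Group T] [Finite T] [IsSimpleGroup T] (hT : ¬ Group.IsSolvable T)
    (N : Subgroup T) (hN : ∀ a ∈ N, ∀ b ∈ N, a * b = b * a) :
    ∃ g : T, ∀ a ∈ N, g * a * g⁻¹ ∈ N → a = 1 := by
  classical
  let D : T → Subgroup T := fun g => N ⊓ N.comap (MulAut.conj g).toMonoidHom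
  have hD : ∀ g a : T, a ∈ D g ↔ a ∈ N ∧ g * a * g⁻¹ ∈ N := fun g a => Iff.rfl
  obtain ⟨g, hg⟩ : ∃ g : T, ∀ h : T, Nat.card (D g) ≤ Nat.card (D h) := by
    obtain ⟨g, -, hg⟩ := Set.exists_min_image (Set.univ : Set T) (fun g => Nat.card (D g)) Set.finite_univ ⟨1, trivial⟩
    exact ⟨g, fun h => hg h trivial⟩
  refine ⟨g, fun a ha1 ha2 => ?_⟩
  by_contra hne
  have hbot : D g ≠ ⊥ := fun h => hne (by
    have : a ∈ D g := ⟨ha1, ha2⟩
    rwa [h, Subgroup.mem_bot] at this)
  have hc : Nat.card (D g) ≠ 1 := fun h => hbot (Subgroup.card_eq_one.1 h)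
  obtain ⟨p, hp, hpd⟩ := Nat.exists_prime_and_dvd hc
  have : Fact p.Prime := ⟨hp⟩
  obtain ⟨⟨x, hx⟩, hxo⟩ := exists_prime_orderOf_dvd_card' p hpd
  have hxo' : orderOf x = p := by
    rw [← hxo]; exact (Subgroup.orderOf_coe (⟨x, hx⟩ : D g)).symm ▸ rfl
  have h1 := zenkov p (Nat.card T) T le_rfl N (N.map (MulAut.conj g⁻¹).toMonoidHom) hN ?_ ?_ x hx.1 ?_
    ⟨1, by rw [pow_one, ← hxo', pow_orderOf_eq_one]⟩
  · have h2 : Subgroup.normalClosure {x} = ⊤ := by
      refine (Subgroup.normalClosure_normal.eq_bot_or_eq_top).resolve_left fun h => ?_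
      have h3 : x ∈ Subgroup.normalClosure {x} := Subgroup.subset_normalClosure rfl
      rw [h, Subgroup.mem_bot] at h3
      rw [h3, orderOf_one] at hxo'
      exact hp.one_lt.ne hxo'
    rw [h2] at h1
    apply hT
    have h3 : IsPGroup p T := h1.of_equiv Subgroup.topEquiv
    have := h3.isNilpotent
    infer_instance
  · rintro _ ⟨a, ha, rfl⟩ _ ⟨b, hb, rfl⟩
    rw [← map_mul, ← map_mul, hN a ha b hb]
  · intro h h1 a ha hb
    have key : ∀ c : T, c ∈ N.map (MulAut.conj g⁻¹).toMonoidHom ↔ g * c * g⁻¹ ∈ N := by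
      intro c
      constructor
      · rintro ⟨b, hb, rfl⟩
        change g * (g⁻¹ * b * g⁻¹⁻¹) * g⁻¹ ∈ N
        simpa [mul_assoc] using hb
      · intro h
        refine ⟨_, h, ?_⟩
        change g⁻¹ * (g * c * g⁻¹) * g⁻¹⁻¹ = c
        group
    have h2 : D (g * h⁻¹) ≤ D g := by
      rintro c ⟨hc1, hc2⟩
      refine ⟨hc1, (key c).1 (h1 c hc1 ?_)⟩
      rw [key]
      change g * h⁻¹ * c * (g * h⁻¹)⁻¹ ∈ N at hc2
      simpa [mul_assoc] using hc2
    have h3 : D (g * h⁻¹) = D g := Subgroup.eq_of_le_of_card_ge h2 (hg _)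
    have h4 : a ∈ D g := ⟨ha, (key a).1 hb⟩
    rw [← h3] at h4
    rw [key]
    have h5 : g * h⁻¹ * a * (g * h⁻¹)⁻¹ ∈ N := h4.2
    simpa [mul_assoc] using h5
  · exact ⟨g * x * g⁻¹, hx.2, by
      change g⁻¹ * (g * x * g⁻¹) * g⁻¹⁻¹ = x
      group⟩

end Cfsg.Agent.H88.FC
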