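import Mathlib
import Cfsg.Agent.H88.FC.Choice
import Cfsg.Agent.H88.FC.Lam
import Cfsg.Agent.H88.FC.Zenkov
import Cfsg.Agent.H319.FC.Sem

/-!
# S5764, SP4G: `S` normalizes an abelian group of odd exponent (helper88)

* `kill3_of_reg` : `v` regular, `S ∩ P` normalizes `C(v)`;
* `kill3_odd` : `S` not contained in `P`, `|F| = 2^f`, `f` odd, `A ≠ 1` abelian of odd exponent and `S`-invariant.
-/

set_option autoImplicit false
set_option linter.unusedSectionVars false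

namespace Cfsg.Agent.H88.FC

open Matrix Cfsg.Agent.ClassicalGeometry.Sp4Graph Cfsg.Agent.H319.FC
open Cfsg.Agent.ClassicalGeometry.SympBasic Cfsg.Agent.ClassicalGeometry.SympAutSemi

universe u

variable {F : Type u} [Field F] [CharP F 2]

/-- an automorphism in `P` fixing `v` and `v₂` is linear -/
theorem lin_of_fix {v v₂ : Sp4 F} (hv : Reg v) {l : F} (h : (v₂ : Matrix I4 I4 F) * (1 + l • st (v : Matrix I4 I4 F)) =
      1 + l • (v : Matrix I4 I4 F)) {g : semiSim 2 F} {φ : F ≃+* F} {k : F} (hg : IsSemi g.1 φ k)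
    (h1 : conjHom 2 F g v = v) (h2 : conjHom 2 F g v₂ = v₂) : φ l = l := by
  have hcom : ∀ A : Sp4 F, conjHom 2 F g A = A → ∀ x, g.1 (rho 2 F A x) = rho 2 F A (g.1 x) := by
    intro A hA x
    have h3 := rho_conjHom g A
    rw [hA] at h3
    calc g.1 (rho 2 F A x) = g.1 (rho 2 F A (g.1⁻¹ (g.1 x))) := by rw [perm_inv_apply_self]
      _ = (g.1 * rho 2 F A * g.1⁻¹) (g.1 x) := rfl
      _ = rho 2 F A (g.1 x) := by rw [← h3]
  have h3 : conjHom 2 F g v⁻¹ = v⁻¹ := by rw [map_inv, h1]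
  have hfun : ∀ x, rho 2 F v₂ (x + l • rho 2 F v⁻¹ x) = x + l • rho 2 F v x := by
    intro x
    simp only [rho_apply]
    rw [coe_inv]
    have h4 := congrArg (fun M : Matrix I4 I4 F => M *ᵥ x) h
    simp only [← Matrix.mulVec_mulVec, Matrix.add_mulVec, Matrix.one_mulVec, Matrix.smul_mulVec] at h4
    exact h4
  have hfun' : ∀ y, rho 2 F v₂ (y + φ l • rho 2 F v⁻¹ y) = y + φ l • rho 2 F v y := by
    intro y
    obtain ⟨x, rfl⟩ := g.1.surjective y
    have h4 := congrArg g.1 (hfun x)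
    rw [hcom v₂ h2, hg.1, hg.1, hg.2.1, hg.2.1, hcom v h1, hcom v⁻¹ h3] at h4
    exact h4
  have hmat : (v₂ : Matrix I4 I4 F) * (1 + φ l • st (v : Matrix I4 I4 F)) = 1 + φ l • (v : Matrix I4 I4 F) := by
    rw [← Matrix.mulVec_injective.eq_iff]
    funext x
    have h4 := hfun' x
    simp only [rho_apply] at h4
    rw [coe_inv] at h4
    simp only [← Matrix.mulVec_mulVec, Matrix.add_mulVec, Matrix.one_mulVec, Matrix.smul_mulVec]
    exact h4
  by_contra hne
  have hne' : φ l - l ≠ 0 := sub_ne_zero.2 hne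
  have h5 : (φ l - l) • ((v₂ : Matrix I4 I4 F) * st (v : Matrix I4 I4 F)) = (φ l - l) • (v : Matrix I4 I4 F) := by
    have h6 : (v₂ : Matrix I4 I4 F) * (1 + φ l • st (v : Matrix I4 I4 F)) - (v₂ : Matrix I4 I4 F) * (1 + l • st (v : Matrix I4 I4 F))
      = (1 + φ l • (v : Matrix I4 I4 F)) - (1 + l • (v : Matrix I4 I4 F)) := by rw [hmat, h]
    simp only [mul_add, mul_smul_comm, mul_one] at h6
    have h7 : (φ l - l) • ((v₂ : Matrix I4 I4 F) * st (v : Matrix I4 I4 F)) =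
      ((v₂ : Matrix I4 I4 F) + φ l • ((v₂ : Matrix I4 I4 F) * st (v : Matrix I4 I4 F))) -
        ((v₂ : Matrix I4 I4 F) + l • ((v₂ : Matrix I4 I4 F) * st (v : Matrix I4 I4 F))) := by module
    rw [h7, h6]
    module
  have h6 : (v₂ : Matrix I4 I4 F) * st (v : Matrix I4 I4 F) = (v : Matrix I4 I4 F) := by
    have h7 := congrArg (fun M : Matrix I4 I4 F => (φ l - l)⁻¹ • M) h5
    simp only [smul_smul, inv_mul_cancel₀ hne', one_smul] at h7
    exact h7
  rw [mul_add, mul_one, mul_smul_comm, h6] at h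
  have h7 : (v₂ : Matrix I4 I4 F) = 1 := add_right_cancel h
  rw [h7, one_mul] at h6
  apply hv.ns 0
  rw [W, h6, zero_smul]
  exact CharTwo.add_self_eq_zero _

variable [Finite F]

theorem odd_of_comm {v : Sp4 F} (hv : Reg v) {n : Sp4 F} (hn : n * v = v * n) : Odd (orderOf n) := by
  rw [← Nat.not_even_iff_odd]
  intro he
  obtain ⟨k, hk⟩ := he
  have h0 : 0 < orderOf n := orderOf_pos n
  have hc : Commute n v := hn
  have h1 : n ^ k = 1 := by
    apply eq_one_of_sq' hv (hc.pow_left k).eq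
    rw [← pow_mul, mul_two, ← hk, pow_orderOf_eq_one]
  have h2 := orderOf_dvd_of_pow_eq_one h1
  have h3 := Nat.le_of_dvd (by omega) h2
  omega

/-- **three conjugates, if `S ∩ P` normalizes `C(v)`, `v` regular** -/
theorem kill3_of_reg (hq : 4 ≤ Nat.card F) (h3 : ∀ x : F, x ^ 3 = 1 → x = 1) {S : Subgroup (MulAut (Sp4 F))} {v : Sp4 F}
    (hv : Reg v) (hN : ∀ α ∈ S, α ∈ (conjHom 2 F).range → ∀ n : Sp4 F, n * v = v * n → α n * v = v * α n) :
    Kill3 S := by
  have hsimple := simple_sp (F := F) hq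
  have hns := not_solvable_sp (F := F) hq
  obtain ⟨l, hl, hl'⟩ := exists_lam hq h3 (k₁ := (v : Matrix I4 I4 F).trace)
    (k₂ := (graphHom F v : Matrix I4 I4 F).trace) hv.c1
  obtain ⟨v₂, hv2, hrel⟩ := exists_v2 hl
  -- the centralizer of `v`
  let N : Subgroup (Sp4 F) := Subgroup.centralizer {v}
  have hNm : ∀ n : Sp4 F, n ∈ N ↔ n * v = v * n := by
    intro n
    rw [Subgroup.mem_centralizer_singleton_iff]
  have hNc : ∀ a ∈ N, ∀ b ∈ N, a * b = b * a := by
    intro a ha b hb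
    rw [hNm] at ha hb
    apply Subtype.ext
    exact comm_of_comm hv (congrArg Subtype.val ha) (congrArg Subtype.val hb)
  obtain ⟨x, hx⟩ := exists_inf_conj hns N hNc
  -- key
  have key : ∀ n : Sp4 F, n * v = v * n → MulAut.conj (x * n * x⁻¹) ∈ S → n = 1 := by
    intro n hn hS
    have h1 := hN _ hS (conj_mem_P _) v rfl
    rw [MulAut.conj_apply] at h1
    have hodd : Odd (orderOf (x * n * x⁻¹)) := by
      have h2 : orderOf (x * n * x⁻¹) = orderOf n := by
        rw [← MulAut.conj_apply, MulEquiv.orderOf_eq]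
      rw [h2]
      exact odd_of_comm hv hn
    have h2 := comm_of_conj hv hodd h1
    exact hx n ((hNm n).2 hn) ((hNm _).2 h2)
  have hkey2 : ∀ α ∈ S, α ∈ (conjHom 2 F).range → MulAut.conj x * α * (MulAut.conj x)⁻¹ ∈ S →
      ∀ n : Sp4 F, n * v = v * n → MulAut.conj (x * n) * α * (MulAut.conj (x * n))⁻¹ ∈ S → α n = n := by
    intro α hα hαP h0 n hn h1
    have h2 : MulAut.conj (x * (n * (α n)⁻¹) * x⁻¹) =
        (MulAut.conj (x * n) * α * (MulAut.conj (x * n))⁻¹) * (MulAut.conj x * α * (MulAut.conj x)⁻¹)⁻¹ := by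
      have h3 := conj_comm α n
      have h4 : MulAut.conj (x * n) * α * (MulAut.conj (x * n))⁻¹ =
          MulAut.conj x * (MulAut.conj n * α * (MulAut.conj n)⁻¹) * (MulAut.conj x)⁻¹ := by
        rw [map_mul]; group
      rw [h4, h3]
      simp only [map_mul, map_inv]
      group
    have h3 : n * (α n)⁻¹ = 1 := by
      apply key
      · have h4 := hN α hα hαP n hn
        have h5 : Commute n v := hn
        have h6 : Commute (α n) v := h4
        exact (h5.mul_left h6.inv_left).eq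
      · rw [h2]
        exact mul_mem h1 (inv_mem h0)
    exact (mul_inv_eq_one.1 h3).symm
  refine ⟨![x, x * v, x * v₂], fun α hα hαP hi => ?_⟩
  have i0 : MulAut.conj x * α * (MulAut.conj x)⁻¹ ∈ S := hi 0
  have i1 : MulAut.conj (x * v) * α * (MulAut.conj (x * v))⁻¹ ∈ S := hi 1
  have i2 : MulAut.conj (x * v₂) * α * (MulAut.conj (x * v₂))⁻¹ ∈ S := hi 2
  have f1 := hkey2 α hα hαP i0 v rfl i1
  have f2 := hkey2 α hα hαP i0 v₂ hv2 i2
  obtain ⟨g, rfl⟩ := hαP
  obtain ⟨φ, k, hk, hg⟩ := g.2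
  have hφ := hl' φ (lin_of_fix hv hrel hg f1 f2)
  obtain ⟨A, hA, -⟩ := exists_conj_of_linear hk hg hφ
  rw [hA] at f1 i0 ⊢
  rw [MulAut.conj_apply] at f1
  have hAv : A * v = v * A := by
    rw [mul_inv_eq_iff_eq_mul] at f1
    exact f1
  have h5 : A = 1 := by
    apply key A hAv
    rw [map_mul, map_mul, map_inv]
    exact i0
  rw [h5, map_one]

/-- **the odd case** -/
theorem kill3_odd (hq : 4 ≤ Nat.card F) (h3 : ∀ x : F, x ^ 3 = 1 → x = 1) {S : Subgroup (MulAut (Sp4 F))}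
    (hS : ¬ S ≤ (conjHom 2 F).range) {r : ℕ} (hr : Odd r) (A : Subgroup (Sp4 F)) (hA : A ≠ ⊥)
    (hcomm : ∀ a ∈ A, ∀ b ∈ A, a * b = b * a) (hexp : ∀ a ∈ A, a ^ r = 1) (hinv : ∀ α ∈ S, ∀ a ∈ A, α a ∈ A) :
    Kill3 S := by
  have hodd : ∀ a ∈ A, Odd (orderOf a) := fun a ha => hr.of_dvd_nat (orderOf_dvd_of_pow_eq_one (hexp a ha))
  obtain ⟨v, hv, hv1, hv2⟩ : ∃ v : Sp4 F, Reg v ∧ (∀ a ∈ A, a * v = v * a) ∧
      ∀ n : Sp4 F, (∀ a ∈ A, n * a = a * n) → n * v = v * n := by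
    by_cases hex : ∃ a ∈ A, c1 a * c2 a ≠ 0
    · obtain ⟨a, ha, h1⟩ := hex
      exact ⟨a, ⟨left_ne_zero_of_mul h1, right_ne_zero_of_mul h1⟩, fun b hb => hcomm b hb a ha, fun n hn => hn a ha⟩
    · push Not at hex
      obtain ⟨a₀, ha₀, ha₀1⟩ : ∃ a ∈ A, a ≠ 1 := by
        obtain ⟨a, h⟩ := Subgroup.ne_bot_iff_exists_ne_one.1 hA
        exact ⟨a.1, a.2, fun h' => h (Subtype.ext h')⟩
      obtain ⟨α, hαS, hαP⟩ := Set.not_subset.1 hS
      have hgr : ∀ y : Sp4 F, c1 (α y) = 0 ↔ c2 y = 0 := by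
        intro y
        obtain ⟨k, hk⟩ := exists_graph hq hαP
        obtain ⟨φ, c, hc, hg⟩ := k.2
        have h4 : c1 (α y) = φ (c2 y) := by
          rw [hk, c1]
          exact trace_conjHom hg (graphEquiv F y)
        rw [h4, map_eq_zero]
      obtain ⟨a, b, ha, hb, ha1, hb1, h1a, h2b⟩ : ∃ a b : Sp4 F, a ∈ A ∧ b ∈ A ∧ a ≠ 1 ∧ b ≠ 1 ∧ c1 a = 0 ∧ c2 b = 0 := by
        rcases mul_eq_zero.1 (hex a₀ ha₀) with h4 | h4
        · refine ⟨a₀, α⁻¹ a₀, ha₀, hinv _ (inv_mem hαS) _ ha₀, ha₀1, ?_, h4, ?_⟩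
          · rwa [Ne, map_eq_one_iff _ (MulEquiv.injective _)]
          · rw [← hgr]
            have : α (α⁻¹ a₀) = a₀ := α.apply_symm_apply a₀
            rwa [this]
        · refine ⟨α a₀, a₀, hinv _ hαS _ ha₀, ha₀, ?_, ha₀1, ?_, h4⟩
          · rwa [Ne, map_eq_one_iff _ (MulEquiv.injective _)]
          · rwa [hgr]
      have hE := exc_of (hcomm a ha b hb) (hodd a ha) (hodd b hb) (hodd _ (mul_mem ha hb)) (hodd _ (mul_mem ha (inv_mem hb)))
        ha1 hb1 h1a h2b (hex _ (mul_mem ha hb)) (hex _ (mul_mem ha (inv_mem hb)))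
      obtain ⟨l, hl0, hl1⟩ := exists_t (F := F) hq
      obtain ⟨v, hv, hX⟩ := hE.exists_reg hl0 hl1 h3
      refine ⟨v, hv, fun c hc => ?_, fun n hn => ?_⟩
      · exact Subtype.ext (hX _ (congrArg Subtype.val (hcomm c hc a ha)) (congrArg Subtype.val (hcomm c hc b hb)))
      · exact Subtype.ext (hX _ (congrArg Subtype.val (hn a ha)) (congrArg Subtype.val (hn b hb)))
  refine kill3_of_reg hq h3 hv fun α hα _ n hn => hv2 _ fun a ha => ?_
  have h4 : α⁻¹ a ∈ A := hinv _ (inv_mem hα) a ha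
  have h5 : n * α⁻¹ a = α⁻¹ a * n := by
    apply Subtype.ext
    exact comm_of_comm hv (congrArg Subtype.val hn) (congrArg Subtype.val (hv1 _ h4))
  have h6 := congrArg α h5
  rw [map_mul, map_mul] at h6
  have h7 : α (α⁻¹ a) = a := α.apply_symm_apply a
  rwa [h7] at h6

/-- if `|F| = 2^f` with `f` odd, there are no elements of order three in `F^*` -/
theorem cube_of_odd {f : ℕ} (hF : Nat.card F = 2 ^ f) (hf : Odd f) (x : F) (hx : x ^ 3 = 1) : x = 1 := by
  have : Fintype F := Fintype.ofFinite F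
  rw [Nat.card_eq_fintype_card] at hF
  have hx0 : x ≠ 0 := by
    rintro rfl
    rw [zero_pow (by norm_num)] at hx
    exact zero_ne_one hx
  have h1 : x ^ (2 ^ f - 1) = 1 := by
    rw [← hF]
    exact FiniteField.pow_card_sub_one_eq_one x hx0
  have h2 : 2 ^ f % 3 = 2 := by
    obtain ⟨k, rfl⟩ := hf
    rw [pow_succ, pow_mul, Nat.mul_mod, Nat.pow_mod]
    norm_num
  have h3 : orderOf x ∣ Nat.gcd 3 (2 ^ f - 1) := Nat.dvd_gcd (orderOf_dvd_of_pow_eq_one hx) (orderOf_dvd_of_pow_eq_one h1)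
  have h4 : Nat.gcd 3 (2 ^ f - 1) = 1 := by
    rw [← Nat.Coprime, Nat.Prime.coprime_iff_not_dvd Nat.prime_three]
    intro h5
    obtain ⟨c, hc⟩ := h5
    have : 0 < 2 ^ f := by positivity
    omega
  rw [h4, Nat.dvd_one, orderOf_eq_one_iff] at h3
  exact h3

end Cfsg.Agent.H88.FC
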